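import Groth.Agent.BlowBC.Scheme
import Groth.Agent.KoszulLib.QuasiBC
import Groth.Agent.KoszulLib.FlatKinds
import Groth.Agent.KoszulLib.SeqProps
import Mathlib

/-!
# Relatively quasi-regular centres: thickenings are flat, blow-ups commute with base change
-/

set_option autoImplicit false
set_option linter.style.haveILetI false
set_option maxSynthPendingDepth 4
set_option backward.isDefEq.respectTransparency false
universe u

open CategoryTheory AlgebraicGeometry Limits TopologicalSpace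

namespace Groth.Agent.BlowBC

open BlowUpExist

theorem exists_gens {P S : Scheme.{u}} (q : P ⟶ S) (𝓘 : P.IdealSheafData)
    (hreg : RegImm.IsRegularIdeal RegImm.Kind.quasi 𝓘) (W : S.Opens) (x : P) (hx : q x ∈ W) :
    ∃ U : P.affineOpens, x ∈ U.1 ∧ U.1 ≤ q ⁻¹ᵁ W ∧ ∃ (n : ℕ) (f : Fin n → Γ(P, U.1)),
      CAlgX.IsQuasiRegular f ∧ 𝓘.ideal U = Ideal.span (Set.range f) := by
  by_cases hs : x ∈ 𝓘.support
  · obtain ⟨U₀, hxU₀, rs, hrs, hI⟩ := hreg x hs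
    obtain ⟨U, hU, hxU, hUle⟩ := exists_isAffineOpen_mem_and_subset (X := P) (U := U₀.1 ⊓ q ⁻¹ᵁ W)
      (⟨hxU₀, hx⟩ : x ∈ U₀.1 ⊓ q ⁻¹ᵁ W)
    have e : U ≤ U₀.1 := fun y hy => (hUle hy).1
    let res := (P.presheaf.map (homOfLE e).op).hom
    have hflat : ((𝟙 P : P ⟶ P).appLE U₀.1 U e).hom.Flat :=
      HasRingHomProperty.appLE @Flat (𝟙 P) inferInstance U₀ ⟨U, hU⟩ e
    have halg : P.presheaf.map (homOfLE e).op = (𝟙 P : P ⟶ P).appLE U₀.1 U e := by
      simp [Scheme.Hom.appLE]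
    rw [← halg] at hflat
    letI : Algebra Γ(P, U₀.1) Γ(P, U) := res.toAlgebra
    haveI : Module.Flat Γ(P, U₀.1) Γ(P, U) := hflat
    refine ⟨⟨U, hU⟩, hxU, fun y hy => (hUle hy).2, rs.length, res ∘ rs.get, ?_, ?_⟩
    · exact KoszulLib.goodSeq_quasi.flat (S := Γ(P, U)) (show CAlgX.IsQuasiRegular rs.get from hrs)
    · rw [← 𝓘.map_ideal (U := ⟨U, hU⟩) (V := U₀) e, hI, Set.range_comp, ← Ideal.map_span, Set.range_list_get]
      rfl
  · obtain ⟨U, hU, hxU, hUle⟩ := exists_isAffineOpen_mem_and_subset (X := P)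
      (U := (q ⁻¹ᵁ W) ⊓ 𝓘.support.compl) (⟨hx, hs⟩ : x ∈ (q ⁻¹ᵁ W) ⊓ 𝓘.support.compl)
    have htop : 𝓘.ideal ⟨U, hU⟩ = ⊤ := by
      have h := KoszBlow.map_ideal_fromSpec 𝓘 ⟨U, hU⟩
      rw [BlowUpLib.comap_eq_top 𝓘 hU.fromSpec fun y hy => (hUle
        (hU.range_fromSpec.le ⟨y, rfl⟩)).2 hy] at h
      simpa [Scheme.IdealSheafData.ideal_top, Ideal.map_top] using h.symm
    refine ⟨⟨U, hU⟩, hxU, fun y hy => (hUle hy).1, 1, fun _ => 1, ?_, htop.trans (by simp)⟩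
    intro n G _ _ d
    rw [Set.range_const, Ideal.span_singleton_one]
    trivial

theorem flat_thickening {P S : Scheme.{u}} (q : P ⟶ S) (𝓘 : P.IdealSheafData)
    (hreg : RegImm.IsRegularIdeal RegImm.Kind.quasi 𝓘) [Flat (𝓘.subschemeι ≫ q)] (n : ℕ) :
    Flat ((𝓘 ^ (n + 1)).subschemeι ≫ q) := by
  let J := 𝓘 ^ (n + 1)
  suffices key : ∀ e : J.subscheme, ∃ (V : Scheme.{u}) (j : V ⟶ J.subscheme), IsOpenImmersion j ∧ e ∈ Set.range j ∧
      Flat (j ≫ J.subschemeι ≫ q) by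
    choose V j hj hmem hfl using key
    let 𝒰 : J.subscheme.OpenCover := J.subscheme.openCoverOfIsOpenCover (fun e => (haveI := hj e; (j e).opensRange))
      (eq_top_iff.2 fun e _ => Opens.mem_iSup.2 ⟨e, hmem e⟩)
    refine (IsZariskiLocalAtSource.iff_of_openCover (P := @Flat) 𝒰).2 fun (e : J.subscheme) => ?_
    haveI := hj e
    show Flat ((j e).opensRange.ι ≫ J.subschemeι ≫ q)
    rw [← Scheme.Hom.isoOpensRange_inv_comp (j e), Category.assoc]
    haveI := hfl e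
    infer_instance
  intro e
  let x := J.subschemeι e
  obtain ⟨W, hW, hxW, -⟩ := exists_isAffineOpen_mem_and_subset (X := S) (U := ⊤) (trivial : q x ∈ (⊤ : S.Opens))
  obtain ⟨U, hxU, eU, m, f, hf, hI⟩ := exists_gens q 𝓘 hreg W x hxW
  have hsheaf : J.subschemeι.ker.comap U.2.fromSpec = sheafOf (J.ideal U) := by
    rw [Scheme.IdealSheafData.ker_subschemeι]
    exact comap_fromSpec_eq J U
  obtain ⟨j, hjo, hje, hjcov⟩ := BlowExc.exists_piece J.subschemeι U.2.fromSpec (J.ideal U) hsheaf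
  refine ⟨_, j, hjo, hjcov e (U.2.range_fromSpec.ge hxU), ?_⟩
  have h1 := BlowExc.flat_ringHom_of_flat q 𝓘 ⟨W, hW⟩ U eU
  letI : Algebra Γ(S, W) Γ(P, U.1) := (q.appLE W U.1 eU).hom.toAlgebra
  haveI : Module.Flat Γ(S, W) (Γ(P, U.1) ⧸ Ideal.span (Set.range f)) := by
    rw [hI] at h1
    exact RingHom.flat_algebraMap_iff.1 h1
  have h2 := KoszulLib.flat_quotient_pow (A := Γ(S, W)) hf (n + 1)
  have h3 : ((Ideal.Quotient.mk (J.ideal U)).comp (q.appLE W U.1 eU).hom).Flat := by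
    have hJ : J.ideal U = Ideal.span (Set.range f) ^ (n + 1) := by
      rw [← hI]; rfl
    rw [hJ]
    exact RingHom.flat_algebraMap_iff.2 h2
  rw [reassoc_of% hje, ← hW.SpecMap_appLE_fromSpec q U.2 eU, ← Category.assoc]
  have h4 : Flat (Spec.map (CommRingCat.ofHom ((Ideal.Quotient.mk (J.ideal U)).comp (q.appLE W U.1 eU).hom))) :=
    (HasRingHomProperty.Spec_iff (P := @Flat)).2 h3
  erw [BlowExc.spec_comp]
  exact MorphismProperty.comp_mem _ _ _ h4 (inferInstance : Flat hW.fromSpec)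

/-- Blowing up a relatively quasi-regular centre commutes with every base change. -/
theorem isBlowUp_baseChange_of_relQuasi {P P' S T B B' : Scheme.{u}} (q : P ⟶ S) (𝓘 : P.IdealSheafData)
    (hreg : RegImm.IsRegularIdeal RegImm.Kind.quasi 𝓘) [Flat (𝓘.subschemeι ≫ q)]
    (b : B ⟶ P) (hb : BlowUp.IsBlowUp b 𝓘) (g : T ⟶ S) (pP : P' ⟶ P) (qT : P' ⟶ T) (hP : IsPullback pP qT q g)
    (pB : B' ⟶ B) (bT : B' ⟶ P') (hB : IsPullback pB bT b pP) : BlowUp.IsBlowUp bT (𝓘.comap pP) := by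
  refine isBlowUp_baseChange 𝓘 hB.flip hb fun x => ?_
  obtain ⟨W, hW, hxW, -⟩ := exists_isAffineOpen_mem_and_subset (X := S) (U := ⊤)
    (trivial : q (pP x) ∈ (⊤ : S.Opens))
  obtain ⟨⟨U, hU⟩, hxU, eU, m, a, ha, hI⟩ := exists_gens q 𝓘 hreg W (pP x) hxW
  obtain ⟨W', hW', hxW', eW'⟩ := exists_isAffineOpen_mem_and_subset (X := T) (U := g ⁻¹ᵁ W)
    (show qT x ∈ g ⁻¹ᵁ W by
      show g (qT x) ∈ W
      rw [← Scheme.Hom.comp_apply, ← hP.w, Scheme.Hom.comp_apply]; exact hxW)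
  letI : Algebra Γ(S, W) Γ(P, U) := (q.appLE W U eU).hom.toAlgebra
  letI : Algebra Γ(S, W) Γ(T, W') := (g.appLE W W' eW').hom.toAlgebra
  let s₁ : Spec Γ(P, U) ⟶ Spec Γ(S, W) := Spec.map (CommRingCat.ofHom (algebraMap Γ(S, W) Γ(P, U)))
  let s₂ : Spec Γ(T, W') ⟶ Spec Γ(S, W) := Spec.map (CommRingCat.ofHom (algebraMap Γ(S, W) Γ(T, W')))
  have e₁ : s₁ ≫ hW.fromSpec = hU.fromSpec ≫ q := hW.SpecMap_appLE_fromSpec q hU eU
  have e₂ : s₂ ≫ hW.fromSpec = hW'.fromSpec ≫ g := hW.SpecMap_appLE_fromSpec g hW' eW'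
  let N := pullback.map s₁ s₂ q g hU.fromSpec hW'.fromSpec hW.fromSpec e₁ e₂
  let e := (pullbackSpecIso Γ(S, W) Γ(P, U) Γ(T, W')).inv
  refine ⟨⟨U, hU⟩, TensorProduct Γ(S, W) Γ(P, U) Γ(T, W'), inferInstance,
    Algebra.TensorProduct.includeLeftRingHom, e ≫ N ≫ hP.isoPullback.inv, m, a, inferInstance, ?_, ?_, hI,
    fun i h => good_of_flat_quot (R := Γ(S, W)) _ _ h fun n => ?_⟩
  · have hN : hP.isoPullback.hom x ∈ Set.range N := by
      rw [Scheme.Pullback.range_map]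
      refine ⟨?_, ?_⟩
      · rw [Set.mem_preimage, ← Scheme.Hom.comp_apply, hP.isoPullback_hom_fst]
        exact hU.range_fromSpec.ge hxU
      · rw [Set.mem_preimage, ← Scheme.Hom.comp_apply, hP.isoPullback_hom_snd]
        exact hW'.range_fromSpec.ge hxW'
    obtain ⟨w, hw⟩ := hN
    refine ⟨(pullbackSpecIso Γ(S, W) Γ(P, U) Γ(T, W')).hom w, ?_⟩
    rw [Scheme.Hom.comp_apply, Scheme.Hom.comp_apply]
    have h1 : e ((pullbackSpecIso Γ(S, W) Γ(P, U) Γ(T, W')).hom w) = w := by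
      simp only [e, ← Scheme.Hom.comp_apply, Iso.hom_inv_id]; rfl
    rw [h1, hw, ← Scheme.Hom.comp_apply, Iso.hom_inv_id]
    rfl
  · simp only [Category.assoc, hP.isoPullback_inv_fst]
    simp only [N, pullback.lift_fst, e, s₁, s₂]
    rw [pullbackSpecIso_inv_fst_assoc]
  · haveI := flat_thickening q 𝓘 hreg n
    have h2 := BlowExc.flat_ringHom_of_flat q (𝓘 ^ (n + 1)) ⟨W, hW⟩ ⟨U, hU⟩ eU
    rw [Scheme.IdealSheafData.ideal_pow] at h2
    exact RingHom.flat_algebraMap_iff.1 h2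

theorem isRegularIdeal_ker {Z P : Scheme.{u}} (z : Z ⟶ P) [IsClosedImmersion z]
    (h : RegImm.IsRegularImmersion RegImm.Kind.quasi z) : RegImm.IsRegularIdeal RegImm.Kind.quasi z.ker := by
  intro x hx
  obtain ⟨y, rfl⟩ : x ∈ Set.range z := by
    have h' := (Scheme.Hom.support_ker z).le hx
    rwa [z.isClosedEmbedding.isClosed_range.closure_eq] at h'
  obtain ⟨U, hyU, -, rs, hrs, hker⟩ := h.2 y
  exact ⟨U, hyU, rs, hrs, by rw [Scheme.Hom.ker_apply]; exact hker⟩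

theorem flat_ker {Z P S : Scheme.{u}} (z : Z ⟶ P) [IsClosedImmersion z] (q : P ⟶ S) [Flat (z ≫ q)] :
    Flat (z.ker.subschemeι ≫ q) := by
  have h : inv z.toImage ≫ z ≫ q = z.ker.subschemeι ≫ q := by
    rw [IsIso.inv_comp_eq, ← Category.assoc]
    change z ≫ q = (z.toImage ≫ z.imageι) ≫ q
    rw [Scheme.Hom.toImage_imageι]
  rw [← h]
  infer_instance

end Groth.Agent.BlowBC
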