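import Groth.Agent.BlowBC.ProjBdCore
import Groth.Agent.PBundle.Euler
import Groth.Agent.KoszulLib.Iff
import Groth.Agent.LocFree.Props
import Groth.Prelude.Def_RegImm
import Groth.Prelude.Def_ClSub2

/-!
# The blow-up along a Koszul-regular map into the projective bundle
-/

set_option autoImplicit false
set_option linter.style.haveILetI false
set_option maxSynthPendingDepth 4
set_option backward.isDefEq.respectTransparency false
set_option backward.isDefEq.respectTransparency.types false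
universe u

open CategoryTheory AlgebraicGeometry Limits TopologicalSpace Opposite
open Groth.Agent.QC (res resO res_res res_smul app_res)
noncomputable section

namespace Groth.Agent.BlowBC

open PBundle
open Wiebe (Acyclic)

variable {X X' P : Scheme.{u}} {E : X.Modules} {O : P.Modules} {π : P ⟶ X}
  {q : (Scheme.Modules.pullback π).obj E ⟶ O} {f : X' ⟶ X} {j : X' ⟶ P}

theorem span_range_eq_ofList {R : Type u} [CommRing R] {n : ℕ} (g : Fin n → R) :
    Ideal.span (Set.range g) = Ideal.ofList (List.ofFn g) := by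
  rw [Ideal.ofList]
  congr 1
  ext r
  simp [List.mem_ofFn]

/-- the value of `u` as a function -/
def uval (u : E ⟶ Coh.structureModule X) {U : X.Opens} (t : Γ(E, U)) : Γ(X, U) := u.app U t

/-- linear relations between quotient sections give relations between the functions -/
theorem coeff_eq {hjπ : j ≫ π = f} (u : E ⟶ Coh.structureModule X)
    (Ψ : (Scheme.Modules.pullback j).obj O ⟶ Coh.structureModule X')
    (hcomp : bc q j hjπ Ψ = (Scheme.Modules.pullback f).map u ≫
      ((Scheme.Modules.pullbackPushforwardAdjunction f).homEquiv _ _).symm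
        (SheafOfModules.unitToPushforwardObjUnit f.toRingCatSheafHom))
    {U : X.Opens} {V : P.Opens} (hV : V ≤ π ⁻¹ᵁ U) (h : j ⁻¹ᵁ V ≤ f ⁻¹ᵁ U) {c : Γ(P, V)} {t t' : Γ(E, U)}
    (hc : c • res O hV (sec' π q U t) = res O hV (sec' π q U t')) :
    j.app V c * f.appLE U (j ⁻¹ᵁ V) h (uval u t) = f.appLE U (j ⁻¹ᵁ V) h (uval u t') := by
  have key : ∀ s : Γ(E, U), res (Coh.structureModule X') (j.preimage_mono hV)
      (Ψ.app (j ⁻¹ᵁ (π ⁻¹ᵁ U)) (OmegaSh.pullSect j O (π ⁻¹ᵁ U) (sec' π q U s))) =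
        (show Γ(Coh.structureModule X', j ⁻¹ᵁ V) from f.appLE U (j ⁻¹ᵁ V) h (uval u s)) := by
    intro s
    have h1 : sec' f (bc q j hjπ Ψ) U s =
        (show Γ(Coh.structureModule X', f ⁻¹ᵁ U) from f.app U (uval u s)) := by
      rw [hcomp, sec'_map]
      exact pullbackStructureIso_pullSect f (uval u s)
    rw [sec'_bc'] at h1
    have h2 := congrArg (res (Coh.structureModule X') h) h1
    rw [res_res] at h2
    exact h2
  have h1 := congrArg (fun a => Ψ.app (j ⁻¹ᵁ V) (OmegaSh.pullSect j O V a)) hc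
  simp only [pullSect_smul, pullSect_res, TMul.app_smul] at h1
  rw [← app_res Ψ, ← app_res Ψ, key, key] at h1
  exact h1

/-- the equations of the blow-up in a standard chart -/
def geq (π : P ⟶ X) (q : (Scheme.Modules.pullback π).obj E ⟶ O) (u : E ⟶ Coh.structureModule X) {U : X.Opens}
    {m : ℕ} (t : Fin (m + 1) → Γ(E, U)) (k : Fin (m + 1)) : Fin m → Γ(P, W q t k) := fun i =>
  π.appLE U (W q t k) (W_le q t k) (uval u (t k)) * co q t k (k.succAbove i) -
    π.appLE U (W q t k) (W_le q t k) (uval u (t (k.succAbove i)))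

set_option maxHeartbeats 1600000 in
/-- around every point of the bundle: the chart and its equations -/
theorem exists_chart_eqns (hE : FlatMod.IsFinLocFree E) (u : E ⟶ Coh.structureModule X)
    (hu : ∀ x : X, ∃ U : X.affineOpens, x ∈ U.1 ∧
      ∃ (n : ℕ) (b : Module.Basis (Fin n) Γ(X, U.1) (E.val.obj (op U.1))),
        LCI.IsKoszulRegularSeq Γ(X, U.1) (List.ofFn fun k => ((u.val.app (op U.1)).hom (b k) : Γ(X, U.1))))
    (J : X.IdealSheafData) (hJ : ∀ U : X.affineOpens, J.ideal U = @Ideal.span Γ(X, U.1) _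
      (Set.range fun s : E.val.obj (op U.1) => ((u.val.app (op U.1)).hom s : Γ(X, U.1))))
    (hP : KRR.IsProjBundle π E O q) (hf : BlowUp.IsBlowUp f J) (hjπ : j ≫ π = f)
    (Ψ : (Scheme.Modules.pullback j).obj O ⟶ Coh.structureModule X')
    (hcomp : bc q j hjπ Ψ = (Scheme.Modules.pullback f).map u ≫
      ((Scheme.Modules.pullbackPushforwardAdjunction f).homEquiv _ _).symm
        (SheafOfModules.unitToPushforwardObjUnit f.toRingCatSheafHom)) (p : P) :
    ∃ (U : X.affineOpens) (m : ℕ) (t : Fin (m + 1) → Γ(E, U.1)) (k : Fin (m + 1)),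
      p ∈ W q t k ∧ π p ∈ U.1 ∧ TMul.IsFrame t ∧ IsAffineOpen (W q t k) ∧ IsClosedImmersion (j ∣_ W q t k) ∧
        Acyclic (geq π q u t k) ∧ RingHom.ker (j.app (W q t k)).hom = Ideal.span (Set.range (geq π q u t k)) := by
  classical
  obtain ⟨U, hpU, n, b, hb⟩ := hu (π p)
  let t : Fin n → Γ(E, U.1) := fun i => b i
  have ht : TMul.IsFrame t := by
    refine isFrame_of_bijective (LocFree.isQCoh_of_isFinLocFree hE) U.2 ?_
    have : (fun a : Fin n → Γ(X, U.1) => ∑ i, a i • t i) = b.equivFun.symm := by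
      funext a
      exact (b.equivFun_symm_apply a).symm
    rw [this]
    exact b.equivFun.symm.bijective
  have ha : Acyclic fun i => uval u (t i) := KoszulLib.isKoszulRegularSeq_iff_acyclic.1 hb
  have hI : J.ideal U = Ideal.span (Set.range fun i => uval u (t i)) := by
    rw [hJ U]
    refine le_antisymm (Ideal.span_le.2 ?_) (Ideal.span_mono ?_)
    · rintro _ ⟨s, rfl⟩
      show (u.val.app (op U.1)).hom s ∈ _
      rw [← b.sum_repr s, map_sum]
      refine Ideal.sum_mem _ fun i _ => ?_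
      rw [map_smul]
      exact Ideal.mul_mem_left _ (b.repr s i) (Ideal.subset_span ⟨i, rfl⟩)
    · rintro _ ⟨i, rfl⟩
      exact ⟨b i, rfl⟩
  obtain ⟨k, V, hV, hpV, hg⟩ := exists_mem_W hP ht hpU
  obtain ⟨m, rfl⟩ : ∃ m, n = m + 1 := ⟨n - 1, by have := k.pos; omega⟩
  obtain ⟨hW, hev⟩ := chart (k := k) hP U.2 ht
  have hle : ∀ {V : P.Opens}, V ≤ π ⁻¹ᵁ U.1 → j ⁻¹ᵁ V ≤ f ⁻¹ᵁ U.1 := fun h => by
    rw [← hjπ, Scheme.Hom.comp_preimage]
    exact j.preimage_mono h
  let σ : Fin (m + 1) ≃ Fin (m + 1) := (finSuccEquiv m).trans (finSuccEquiv' k).symm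
  have hσ0 : σ 0 = k := by simp [σ]
  have hσs : ∀ i : Fin m, σ i.succ = k.succAbove i := fun i => by simp [σ]
  have hgk : ∀ l, co q t k l • res O (W_le q t k) (sec' π q U.1 (t k)) = res O (W_le q t k) (sec' π q U.1 (t l)) :=
    co_smul q t k
  let a : Fin (m + 1) → Γ(X, U.1) := fun l => uval u (t (σ l))
  have ha0 : a 0 = uval u (t k) := congrArg (fun l => uval u (t l)) hσ0
  have has : ∀ i : Fin m, a i.succ = uval u (t (k.succAbove i)) := fun i =>
    congrArg (fun l => uval u (t l)) (hσs i)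
  have hI' : J.ideal U = Ideal.span (Set.range a) := by
    rw [hI]
    exact congrArg Ideal.span (σ.surjective.range_comp fun i => uval u (t i)).symm
  have heq : ∀ i : Fin m, j.app (W q t k) (co q t k (k.succAbove i)) *
      f.appLE U.1 (j ⁻¹ᵁ W q t k) (hle (W_le q t k)) (a 0) =
        f.appLE U.1 (j ⁻¹ᵁ W q t k) (hle (W_le q t k)) (a i.succ) := fun i => by
    rw [ha0, has]
    exact coeff_eq u Ψ hcomp (W_le q t k) _ (hgk _)
  have hcov : ∀ x ∈ π ⁻¹ᵁ U.1, ∃ (V : P.Opens) (_ : x ∈ V) (hV : j ⁻¹ᵁ V ≤ f ⁻¹ᵁ U.1) (l : Fin (m + 1))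
      (c : Γ(P, V)), j.app V c * f.appLE U.1 (j ⁻¹ᵁ V) hV (a l) = f.appLE U.1 (j ⁻¹ᵁ V) hV (a 0) ∧
        P.basicOpen c ≤ W q t k := by
    intro x hx
    obtain ⟨k', V', hV', hxV', hg'⟩ := exists_mem_W hP ht hx
    obtain ⟨c, hc⟩ := (hg' V' le_rfl).2 (res O hV' (sec' π q U.1 (t k)))
    simp only [QC.res_self] at hc
    refine ⟨V', hxV', hle hV', σ.symm k', c, ?_, le_W q t k ((P.basicOpen_le c).trans hV') ?_⟩
    · rw [ha0, show a (σ.symm k') = uval u (t k') from congrArg (fun l => uval u (t l)) (σ.apply_symm_apply k')]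
      exact coeff_eq u Ψ hcomp hV' _ hc
    · exact isGen_of_coeff (c := c) hg' le_rfl hV' (by rw [QC.res_self]; exact hc)
  have ha' : Acyclic a := KoszulLib.acyclic_comp_equiv (f := fun i => uval u (t i)) σ ha
  have hres := chart_core (W := W q t k) (co := fun i => co q t k (k.succAbove i)) hjπ J hf U a hI' ha' hW
    (W_le q t k) hev (hle (W_le q t k)) heq hcov
  refine ⟨U, m, t, k, le_W q t k hV hg hpV, hpU, ht, hW, hres.1, ?_, ?_⟩
  all_goals
    rw [show geq π q u t k = fun i : Fin m => π.appLE U.1 (W q t k) (W_le q t k) (a 0) * co q t k (k.succAbove i) -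
      π.appLE U.1 (W q t k) (W_le q t k) (a i.succ) from funext fun i => by rw [ha0, has]; rfl]
  · exact hres.2.1
  · exact hres.2.2

set_option maxHeartbeats 1600000 in
/-- around every point of the bundle the map is a closed immersion cut out by a Koszul-regular sequence -/
theorem exists_piece (hE : FlatMod.IsFinLocFree E) (u : E ⟶ Coh.structureModule X)
    (hu : ∀ x : X, ∃ U : X.affineOpens, x ∈ U.1 ∧
      ∃ (n : ℕ) (b : Module.Basis (Fin n) Γ(X, U.1) (E.val.obj (op U.1))),
        LCI.IsKoszulRegularSeq Γ(X, U.1) (List.ofFn fun k => ((u.val.app (op U.1)).hom (b k) : Γ(X, U.1))))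
    (J : X.IdealSheafData) (hJ : ∀ U : X.affineOpens, J.ideal U = @Ideal.span Γ(X, U.1) _
      (Set.range fun s : E.val.obj (op U.1) => ((u.val.app (op U.1)).hom s : Γ(X, U.1))))
    (hP : KRR.IsProjBundle π E O q) (hf : BlowUp.IsBlowUp f J) (hjπ : j ≫ π = f)
    (Ψ : (Scheme.Modules.pullback j).obj O ⟶ Coh.structureModule X')
    (hcomp : bc q j hjπ Ψ = (Scheme.Modules.pullback f).map u ≫
      ((Scheme.Modules.pullbackPushforwardAdjunction f).homEquiv _ _).symm
        (SheafOfModules.unitToPushforwardObjUnit f.toRingCatSheafHom)) (p : P) :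
    ∃ (W : P.affineOpens) (m : ℕ) (U : X.Opens) (t : Fin (m + 1) → Γ(E, U)),
      p ∈ W.1 ∧ π p ∈ U ∧ TMul.IsFrame t ∧ IsClosedImmersion (j ∣_ W.1) ∧
        ∃ g : Fin m → Γ(P, W.1), Acyclic g ∧ RingHom.ker (j.app W.1).hom = Ideal.span (Set.range g) := by
  obtain ⟨U, m, t, k, hp, hpU, ht, hW, hcl, hg, hker⟩ := exists_chart_eqns hE u hu J hJ hP hf hjπ Ψ hcomp p
  exact ⟨⟨W q t k, hW⟩, m, U.1, t, hp, hpU, ht, hcl, geq π q u t k, hg, hker⟩

/-- the map is a closed immersion -/
theorem isClosedImmersion_toProjBundle (hE : FlatMod.IsFinLocFree E) (u : E ⟶ Coh.structureModule X)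
    (hu : ∀ x : X, ∃ U : X.affineOpens, x ∈ U.1 ∧
      ∃ (n : ℕ) (b : Module.Basis (Fin n) Γ(X, U.1) (E.val.obj (op U.1))),
        LCI.IsKoszulRegularSeq Γ(X, U.1) (List.ofFn fun k => ((u.val.app (op U.1)).hom (b k) : Γ(X, U.1))))
    (J : X.IdealSheafData) (hJ : ∀ U : X.affineOpens, J.ideal U = @Ideal.span Γ(X, U.1) _
      (Set.range fun s : E.val.obj (op U.1) => ((u.val.app (op U.1)).hom s : Γ(X, U.1))))
    (hP : KRR.IsProjBundle π E O q) (hf : BlowUp.IsBlowUp f J) (hjπ : j ≫ π = f)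
    (Ψ : (Scheme.Modules.pullback j).obj O ⟶ Coh.structureModule X')
    (hcomp : bc q j hjπ Ψ = (Scheme.Modules.pullback f).map u ≫
      ((Scheme.Modules.pullbackPushforwardAdjunction f).homEquiv _ _).symm
        (SheafOfModules.unitToPushforwardObjUnit f.toRingCatSheafHom)) :
    IsClosedImmersion j := by
  choose W m U t hpW _ _ hW _ using fun p => exists_piece hE u hu J hJ hP hf hjπ Ψ hcomp p
  exact IsZariskiLocalAtTarget.of_iSup_eq_top (P := @IsClosedImmersion) (fun p => (W p).1)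
    (eq_top_iff.2 fun p _ => Opens.mem_iSup.2 ⟨p, hpW p⟩) hW

end Groth.Agent.BlowBC

end
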