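import Groth.Agent.BlowBC.ProjBd
import Groth.Agent.Conormal.Maps
import Groth.Agent.ConormalH1.Split
import Groth.Agent.RelTilde.Tensor
import Groth.Agent.W7Strat.Frame
import Groth.Agent.SGA6Ext.Pull
import Groth.Agent.DCohLocus.FreeLocus

/-!
# The conormal sheaf of the blow-up inside the projective bundle
-/

set_option autoImplicit false
set_option linter.style.haveILetI false
set_option maxSynthPendingDepth 4
set_option backward.isDefEq.respectTransparency false
set_option backward.isDefEq.respectTransparency.types false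
universe u

open CategoryTheory AlgebraicGeometry Limits TopologicalSpace Opposite
open Groth.Agent.QC (res resO res_res res_smul app_res)

noncomputable section

namespace Groth.Agent.BlowBC

open PBundle
open Wiebe (Acyclic)

/-- An ideal without zeros on an affine open is the unit ideal there. -/
theorem ideal_eq_top_of_notMem {X : Scheme.{u}} (I : X.IdealSheafData) (W : X.affineOpens)
    (h : ∀ x ∈ W.1, x ∉ I.support) : I.ideal W = ⊤ := by
  by_contra hne
  obtain ⟨m, hm, hle⟩ := Ideal.exists_le_maximal _ hne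
  let p : PrimeSpectrum Γ(X, W.1) := ⟨m, hm.isPrime⟩
  have hp : W.2.fromSpec p ∈ W.1 := W.2.range_fromSpec.subset ⟨p, rfl⟩
  refine h _ hp ?_
  rw [Scheme.IdealSheafData.mem_support_iff_of_mem (U := W) hp, Scheme.mem_zeroLocus_iff]
  intro c hc hcx
  have h1 : p ∈ W.2.fromSpec ⁻¹ᵁ X.basicOpen c := hcx
  rw [IsAffineOpen.fromSpec_preimage_basicOpen, PrimeSpectrum.mem_basicOpen] at h1
  exact h1 (hle hc)

variable {X X' P : Scheme.{u}} {E : X.Modules} {O : P.Modules}

/-- regular bases near the support give Koszul-regular bases everywhere -/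
theorem exists_koszul_basis (hE : FlatMod.IsFinLocFree E) (u : E ⟶ Coh.structureModule X) (J : X.IdealSheafData)
    (hJ : ∀ U : X.affineOpens, J.ideal U = @Ideal.span Γ(X, U.1) _
      (Set.range fun s : E.val.obj (op U.1) => ((u.val.app (op U.1)).hom s : Γ(X, U.1))))
    (hu : ∀ y : X, y ∈ J.support → ∃ U : X.affineOpens, y ∈ U.1 ∧
      ∃ (n : ℕ) (b : Module.Basis (Fin n) Γ(X, U.1) (E.val.obj (op U.1))),
        RegImm.Kind.Seq RegImm.Kind.regular Γ(X, U.1)
          (List.ofFn fun k => ((u.val.app (op U.1)).hom (b k) : Γ(X, U.1)))) (y : X) :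
    ∃ U : X.affineOpens, y ∈ U.1 ∧
      ∃ (n : ℕ) (b : Module.Basis (Fin n) Γ(X, U.1) (E.val.obj (op U.1))),
        LCI.IsKoszulRegularSeq Γ(X, U.1) (List.ofFn fun k => ((u.val.app (op U.1)).hom (b k) : Γ(X, U.1))) := by
  classical
  by_cases hy : y ∈ J.support
  · obtain ⟨U, hyU, n, b, hb⟩ := hu y hy
    exact ⟨U, hyU, n, b, KoszulLib.koszul_seq_of_regular hb⟩
  obtain ⟨U₀, n, e, hyU₀, he⟩ := TMul.exists_isFrame hE y
  obtain ⟨U, hU, hyU, hle⟩ := exists_isAffineOpen_mem_and_subset
    (show y ∈ U₀ ⊓ J.support.compl from ⟨hyU₀, hy⟩)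
  have hle' : U ≤ U₀ := fun z hz => (hle hz).1
  let b : Module.Basis (Fin n) Γ(X, U) (E.val.obj (op U)) := Module.Basis.ofEquivFun (he.equiv hle').symm
  refine ⟨⟨U, hU⟩, hyU, n, b, KoszulLib.isKoszulRegularSeq_iff_acyclic.2 (KoszulLib.acyclic_of_span_eq_top ?_)⟩
  refine eq_top_iff.2 (le_trans (ideal_eq_top_of_notMem J ⟨U, hU⟩ fun z hz => (hle hz).2).ge ?_)
  rw [hJ ⟨U, hU⟩]
  refine Ideal.span_le.2 ?_
  rintro _ ⟨s, rfl⟩
  show (u.val.app (op U)).hom s ∈ _
  rw [← b.sum_repr s, map_sum]
  refine Ideal.sum_mem _ fun i _ => ?_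
  rw [map_smul]
  exact Ideal.mul_mem_left _ (b.repr s i) (Ideal.subset_span ⟨i, rfl⟩)

variable {π : P ⟶ X} (q : (Scheme.Modules.pullback π).obj E ⟶ O)

/-- the map of the inverse image of `E` to functions given by `u` -/
def uhat (π : P ⟶ X) (u : E ⟶ Coh.structureModule X) :
    (Scheme.Modules.pullback π).obj E ⟶ Coh.structureModule P :=
  (Scheme.Modules.pullback π).map u ≫ (PicLoc.pullbackStructureIso π).hom

lemma uhat_pullSect (u : E ⟶ Coh.structureModule X) {U : X.Opens} (t : Γ(E, U)) :
    (uhat π u).app (π ⁻¹ᵁ U) (OmegaSh.pullSect π E U t) =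
      (show Γ(Coh.structureModule P, π ⁻¹ᵁ U) from π.app U (uval u t)) :=
  (congrArg ((PicLoc.pullbackStructureIso π).hom.app (π ⁻¹ᵁ U)) (QC.app_pullSect π u U t)).trans
    (pullbackStructureIso_pullSect π (uval u t))

lemma uhat_res (u : E ⟶ Coh.structureModule X) {U : X.Opens} {V : P.Opens} (h : V ≤ π ⁻¹ᵁ U) (t : Γ(E, U)) :
    (uhat π u).app V (res _ h (OmegaSh.pullSect π E U t)) =
      (show Γ(Coh.structureModule P, V) from π.appLE U V h (uval u t)) := by
  rw [← app_res, uhat_pullSect]
  rfl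

variable {q} {f : X' ⟶ X} {j : X' ⟶ P}

/-- the two maps to functions on the blow-up agree -/
theorem pullback_uhat {hjπ : j ≫ π = f} (u : E ⟶ Coh.structureModule X)
    (Ψ : (Scheme.Modules.pullback j).obj O ⟶ Coh.structureModule X')
    (hcomp : bc q j hjπ Ψ = (Scheme.Modules.pullback f).map u ≫
      ((Scheme.Modules.pullbackPushforwardAdjunction f).homEquiv _ _).symm
        (SheafOfModules.unitToPushforwardObjUnit f.toRingCatSheafHom)) :
    (Scheme.Modules.pullback j).map (uhat π u) ≫ (PicLoc.pullbackStructureIso j).hom =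
      (Scheme.Modules.pullback j).map q ≫ Ψ := by
  refine ((Scheme.Modules.pullbackPushforwardAdjunction j).homEquiv _ _).injective ?_
  refine ext_sec' π fun U t => ?_
  have hle : j ⁻¹ᵁ (π ⁻¹ᵁ U) ≤ f ⁻¹ᵁ U := by rw [← hjπ, Scheme.Hom.comp_preimage]
  have h1 : sec' f (bc q j hjπ Ψ) U t =
      (show Γ(Coh.structureModule X', f ⁻¹ᵁ U) from f.app U (uval u t)) := by
    rw [hcomp, sec'_map]
    exact pullbackStructureIso_pullSect f (uval u t)
  rw [sec'_bc'] at h1
  have h2 := congrArg (res (Coh.structureModule X') hle) h1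
  rw [res_res, QC.res_self] at h2
  show ((Scheme.Modules.pullback j).map (uhat π u) ≫ (PicLoc.pullbackStructureIso j).hom).app (j ⁻¹ᵁ (π ⁻¹ᵁ U))
      (OmegaSh.pullSect j _ (π ⁻¹ᵁ U) (OmegaSh.pullSect π E U t)) =
    ((Scheme.Modules.pullback j).map q ≫ Ψ).app (j ⁻¹ᵁ (π ⁻¹ᵁ U))
      (OmegaSh.pullSect j _ (π ⁻¹ᵁ U) (OmegaSh.pullSect π E U t))
  change (PicLoc.pullbackStructureIso j).hom.app (j ⁻¹ᵁ (π ⁻¹ᵁ U)) (((Scheme.Modules.pullback j).map (uhat π u)).app _ _) =
    Ψ.app (j ⁻¹ᵁ (π ⁻¹ᵁ U)) (((Scheme.Modules.pullback j).map q).app _ _)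
  rw [QC.app_pullSect, QC.app_pullSect, uhat_pullSect, pullbackStructureIso_pullSect]
  refine Eq.trans ?_ h2.symm
  subst hjπ
  exact (QC.resO_self (X := X') hle _).symm

/-- sections of the kernel give functions killed on the blow-up -/
theorem app_uhat_kernel {hjπ : j ≫ π = f} (u : E ⟶ Coh.structureModule X)
    (Ψ : (Scheme.Modules.pullback j).obj O ⟶ Coh.structureModule X')
    (hcomp : bc q j hjπ Ψ = (Scheme.Modules.pullback f).map u ≫
      ((Scheme.Modules.pullbackPushforwardAdjunction f).homEquiv _ _).symm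
        (SheafOfModules.unitToPushforwardObjUnit f.toRingCatSheafHom))
    (V : P.Opens) (s : Γ(kernel q, V)) :
    j.app V ((kernel.ι q ≫ uhat π u).app V s : Γ(P, V)) = 0 := by
  have h := congrArg (fun ψ : (Scheme.Modules.pullback j).obj ((Scheme.Modules.pullback π).obj E) ⟶
      Coh.structureModule X' => ψ.app (j ⁻¹ᵁ V) (OmegaSh.pullSect j _ V ((kernel.ι q).app V s)))
    (pullback_uhat u Ψ hcomp)
  change (PicLoc.pullbackStructureIso j).hom.app (j ⁻¹ᵁ V) (((Scheme.Modules.pullback j).map (uhat π u)).app _ _) =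
    Ψ.app (j ⁻¹ᵁ V) (((Scheme.Modules.pullback j).map q).app _ _) at h
  rw [QC.app_pullSect, QC.app_pullSect, kernel_app, map_zero, map_zero] at h
  refine Eq.trans ?_ h
  exact (pullbackStructureIso_pullSect j _).symm

set_option maxHeartbeats 1600000 in
/-- the conormal sheaf is the kernel of the pulled-back quotient -/
theorem conormal_iso (hE : FlatMod.IsFinLocFree E) (u : E ⟶ Coh.structureModule X)
    (hu : ∀ x : X, ∃ U : X.affineOpens, x ∈ U.1 ∧
      ∃ (n : ℕ) (b : Module.Basis (Fin n) Γ(X, U.1) (E.val.obj (op U.1))),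
        LCI.IsKoszulRegularSeq Γ(X, U.1) (List.ofFn fun k => ((u.val.app (op U.1)).hom (b k) : Γ(X, U.1))))
    (J : X.IdealSheafData) (hJ : ∀ U : X.affineOpens, J.ideal U = @Ideal.span Γ(X, U.1) _
      (Set.range fun s : E.val.obj (op U.1) => ((u.val.app (op U.1)).hom s : Γ(X, U.1))))
    (hP : KRR.IsProjBundle π E O q) (hf : BlowUp.IsBlowUp f J) (hjπ : j ≫ π = f)
    (Ψ : (Scheme.Modules.pullback j).obj O ⟶ Coh.structureModule X')
    (hcomp : bc q j hjπ Ψ = (Scheme.Modules.pullback f).map u ≫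
      ((Scheme.Modules.pullbackPushforwardAdjunction f).homEquiv _ _).symm
        (SheafOfModules.unitToPushforwardObjUnit f.toRingCatSheafHom)) :
    Nonempty (Omega.conormal j ≅ kernel ((Scheme.Modules.pullback j).map q)) := by
  classical
  haveI := isClosedImmersion_toProjBundle hE u hu J hJ hP hf hjπ Ψ hcomp
  haveI := hP.epi
  have hwz : (kernel.ι q ≫ uhat π u) ≫ ClSub.toSubscheme j.ker = 0 := by
    refine Scheme.Modules.hom_ext _ _ fun V => ?_
    ext s
    obtain ⟨r, hr⟩ := Conormal.exists_idealSect j V _ (app_uhat_kernel u Ψ hcomp V s)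
    have hr' : (ClSub.idealModι j.ker).app V r = (kernel.ι q ≫ uhat π u).app V s := hr
    change (ClSub.toSubscheme j.ker).app V ((kernel.ι q ≫ uhat π u).app V s) = 0
    rw [← hr']
    exact kernel_app (ClSub.toSubscheme j.ker) r
  let w : kernel q ⟶ ClSub.idealMod j.ker := kernel.lift (ClSub.toSubscheme j.ker) (kernel.ι q ≫ uhat π u) hwz
  have hw : ∀ (V : P.Opens) (s : Γ(kernel q, V)), OmegaSh.idealSect j.ker V (w.app V s) =
      ((uhat π u).app V ((kernel.ι q).app V s) : Γ(P, V)) := fun V s =>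
    congrArg (fun ψ : kernel q ⟶ Coh.structureModule P => ψ.app V s)
      (kernel.lift_ι (ClSub.toSubscheme j.ker) (kernel.ι q ≫ uhat π u) hwz)
  let φ : (Scheme.Modules.pullback j).obj (kernel q) ⟶ Omega.conormal j := (Scheme.Modules.pullback j).map w
  haveI : IsIso φ := by
    refine RelTilde.isIso_of_bijective_near φ fun z => ?_
    obtain ⟨U, m, t, k, hzW, -, ht, hW, hcl, hg, hker⟩ := exists_chart_eqns hE u hu J hJ hP hf hjπ Ψ hcomp (j z)
    obtain ⟨σ, hσ, hσf⟩ := ConormalH1.exists_frame (j := j) ⟨hW, hcl⟩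
      (KoszulLib.isQuasiRegular_of_h1 (KoszulLib.isH1Regular_of_acyclic hg)) hker
    let Wk := W q t k
    let pv : Fin (m + 1) → Γ((Scheme.Modules.pullback π).obj E, Wk) := fun l =>
      res _ (W_le q t k) (OmegaSh.pullSect π E U.1 (t l))
    have hpv : TMul.IsFrame pv := PBundle.isFrame_res (ht.pullback π) _
    have hqpv : ∀ l, q.app Wk (pv l) = co q t k l • gk q t k := fun l => by
      rw [co_smul, ← app_res]
      rfl
    have hz : ∀ i, q.app Wk (pv (k.succAbove i) - co q t k (k.succAbove i) • pv k) = 0 := fun i => by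
      rw [map_sub, TMul.app_smul, hqpv, hqpv, co_self, one_smul, sub_self]
    choose h hh using fun i => exists_kernel_sect q _ (hz i)
    have hwh : ∀ i, w.app Wk (h i) = -σ i := by
      intro i
      refine Conormal.idealSect_injective j.ker Wk ?_
      rw [hw, hh, map_neg, hσ, geq, map_sub, TMul.app_smul, uhat_res, uhat_res, neg_sub, mul_comm]
      rfl
    have hι : ∀ (V : P.Opens) (hV : V ≤ Wk) (c : Fin m → Γ(P, V)),
        (kernel.ι q).app V (∑ i, c i • res (kernel q) hV (h i)) =
          (∑ i, c i • res _ hV (pv (k.succAbove i))) - (∑ i, c i * resO P hV (co q t k (k.succAbove i))) • res _ hV (pv k) := by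
      intro V hV c
      rw [map_sum, Finset.sum_smul, ← Finset.sum_sub_distrib]
      refine Finset.sum_congr rfl fun i _ => ?_
      rw [TMul.app_smul, ← app_res, hh, map_sub, res_smul, smul_sub, mul_smul]
    have hframe : TMul.IsFrame h := by
      refine W7Strat.isFrame_of_bijective fun V hV => ⟨fun c c' hcc => ?_, fun s => ?_⟩
      · have h1 := congrArg ((kernel.ι q).app V) hcc
        simp only [hι] at h1
        let a : (Fin m → Γ(P, V)) → Fin (m + 1) → Γ(P, V) := fun c =>
          k.insertNth (-∑ i, c i * resO P hV (co q t k (k.succAbove i))) c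
        have ha : ∀ c, ∑ l, a c l • res _ hV (pv l) =
            (∑ i, c i • res _ hV (pv (k.succAbove i))) - (∑ i, c i * resO P hV (co q t k (k.succAbove i))) • res _ hV (pv k) := by
          intro c
          rw [Fin.sum_univ_succAbove _ k]
          simp only [a, Fin.insertNth_apply_same, Fin.insertNth_apply_succAbove, neg_smul]
          abel
        rw [← ha, ← ha] at h1
        funext i
        have h2 := congrFun (hpv.comb_injective hV h1) (k.succAbove i)
        simpa only [a, Fin.insertNth_apply_succAbove] using h2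
      · obtain ⟨a, ha⟩ := hpv.comb_surjective hV ((kernel.ι q).app V s)
        have h0 : ∑ l, a l * resO P hV (co q t k l) = 0 := by
          refine ((isGen_gk q t k) V hV).1 ?_
          change _ • res O hV _ = (0 : Γ(P, V)) • res O hV _
          rw [zero_smul, ← kernel_app q s, ← ha, map_sum, Finset.sum_smul]
          refine Finset.sum_congr rfl fun l _ => ?_
          rw [TMul.app_smul, ← app_res, hqpv, res_smul, mul_smul]
        refine ⟨fun i => a (k.succAbove i), QC.app_injective_of_mono (kernel.ι q) V ?_⟩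
        rw [hι, ← ha, Fin.sum_univ_succAbove _ k]
        rw [Fin.sum_univ_succAbove _ k, co_self, map_one, mul_one, add_eq_zero_iff_eq_neg] at h0
        rw [h0, neg_smul]
        abel
    have he := hframe.pullback j
    refine ⟨j ⁻¹ᵁ Wk, hzW, fun V hV => ?_⟩
    have key : ∀ c : Fin m → Γ(X', V), φ.app V (∑ i, c i •
        res ((Scheme.Modules.pullback j).obj (kernel q)) hV (OmegaSh.pullSect j (kernel q) Wk (h i))) =
        ∑ i, (-c) i • res (Omega.conormal j) hV (OmegaSh.conormalSect j Wk (σ i)) := by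
      intro c
      rw [map_sum]
      refine Finset.sum_congr rfl fun i _ => ?_
      have e1 : φ.app (j ⁻¹ᵁ Wk) (OmegaSh.pullSect j (kernel q) Wk (h i)) = -OmegaSh.conormalSect j Wk (σ i) := by
        refine (QC.app_pullSect j w Wk (h i)).trans ?_
        rw [hwh, map_neg]
        rfl
      rw [TMul.app_smul, ← app_res, e1, map_neg, Pi.neg_apply, neg_smul, smul_neg]
    have h1 : Function.Bijective ((φ.app V) ∘ fun c : Fin m → Γ(X', V) => ∑ i, c i •
        res ((Scheme.Modules.pullback j).obj (kernel q)) hV (OmegaSh.pullSect j (kernel q) Wk (h i))) := by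
      rw [funext (f := (φ.app V) ∘ _) key]
      exact Function.Bijective.comp
        (g := fun c : Fin m → Γ(X', V) => ∑ i, c i • res (Omega.conormal j) hV (OmegaSh.conormalSect j Wk (σ i)))
        ⟨hσf.comb_injective hV, hσf.comb_surjective hV⟩ neg_involutive.bijective
    exact (Function.Bijective.of_comp_iff (φ.app V) ⟨he.comb_injective hV, he.comb_surjective hV⟩).1 h1
  -- the inverse image of the kernel
  let S : ShortComplex P.Modules := ShortComplex.mk (kernel.ι q) q (kernel.condition q)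
  have hS : S.ShortExact := ShortComplex.ShortExact.mk'
    (ShortComplex.exact_of_f_is_kernel _ (kernelIsKernel q)) inferInstance inferInstance
  have h2 := SGA6Ext.isFinLocFree_pullback π hE
  have h3 : FlatMod.IsFinLocFree O := fun x => let ⟨V, h⟩ := hP.invertible x; ⟨V, 1, h⟩
  have hS' := SGA6Ext.shortExact_pullback j hS (DCohLocus.isFinLocFree_kernel q h2 h3) h2 h3
  exact ⟨(asIso φ).symm ≪≫ hS'.fIsKernel.conePointUniqueUpToIso (limit.isLimit _)⟩

end Groth.Agent.BlowBC

end
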