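import Groth.Agent.BlowBC.Scheme
import Groth.Agent.KoszBlow.Chart
import Groth.Agent.KoszulLib.Flat
import Mathlib

/-!
# The chart of a blow-up along a Koszul-regular sequence inside a standard chart of projective space
-/

set_option autoImplicit false
set_option linter.style.haveILetI false
set_option maxSynthPendingDepth 4
set_option backward.isDefEq.respectTransparency false
universe u

open CategoryTheory AlgebraicGeometry Limits TopologicalSpace

namespace Groth.Agent.BlowBC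

open BlowUpExist KoszBlow
open Wiebe (Acyclic)

variable {X X' P : Scheme.{u}}

/-- pulled-back functions along `Spec C → Spec Γ(X, U) → X` -/
theorem appLE_spec_fromSpec {U : X.Opens} (hU : IsAffineOpen U) {R : Type u} [CommRing R] (ψ : Γ(X, U) →+* R)
    {g : Spec (CommRingCat.of R) ⟶ X} (hg : g = Spec.map (CommRingCat.ofHom ψ) ≫ hU.fromSpec)
    (D : (Spec (CommRingCat.of R)).Opens) (h : D ≤ g ⁻¹ᵁ U) (r : Γ(X, U)) :
    g.appLE U D h r = (Spec (CommRingCat.of R)).presheaf.map (homOfLE (le_top : D ≤ ⊤)).op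
      ((Scheme.ΓSpecIso (CommRingCat.of R)).inv (ψ r)) := by
  subst hg
  have h1 : hU.fromSpec.appLE U ⊤ hU.fromSpec_preimage_self.ge = (Scheme.ΓSpecIso Γ(X, U)).inv := by
    rw [Scheme.Hom.appLE, hU.fromSpec_app_self, Category.assoc, ← Functor.map_comp]
    simp
  have h2 : (Spec.map (CommRingCat.ofHom ψ) ≫ hU.fromSpec).appLE U D h =
      CommRingCat.ofHom ψ ≫ (Scheme.ΓSpecIso (CommRingCat.of R)).inv ≫
        (Spec (CommRingCat.of R)).presheaf.map (homOfLE (le_top : D ≤ ⊤)).op := by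
    rw [← Scheme.Hom.appLE_comp_appLE _ _ U ⊤ D hU.fromSpec_preimage_self.ge le_top, h1,
      ← Category.assoc (CommRingCat.ofHom ψ), Scheme.ΓSpecIso_inv_naturality, Category.assoc]
    rfl
  exact ConcreteCategory.congr_hom h2 r

/-- where the ideal is generated by a multiple of a given element, that element is the equation of the divisor -/
theorem nzd_of_cartier (J : X.IdealSheafData) {f : X' ⟶ X} (hc : BlowUp.IsEffCartierIdeal (J.comap f))
    {U : X.affineOpens} {O : X'.Opens} (hO : O ≤ f ⁻¹ᵁ U.1) {a₀ : Γ(X, U.1)}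
    (hgen : (J.ideal U).map (f.appLE U.1 O hO).hom = Ideal.span {(f.appLE U.1 O hO) a₀}) :
    (f.appLE U.1 O hO) a₀ ∈ nonZeroDivisors Γ(X', O) := by
  suffices h' : ∀ z, z * (f.appLE U.1 O hO) a₀ = 0 → z = 0 from
    ⟨fun z hz => h' z ((mul_comm z _).trans hz), h'⟩
  intro z hz
  choose V hxV hVO g hg hgV using fun x : O => BlowUpLib.exists_small_generator hc x.2
  refine X'.sheaf.eq_of_locally_eq' (fun x : O => (V x).1) O (fun x => homOfLE (hVO x))
    (fun y hy => Opens.mem_iSup.2 ⟨⟨y, hy⟩, hxV ⟨y, hy⟩⟩) z 0 fun x => ?_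
  have hle : (V x).1 ≤ f ⁻¹ᵁ U.1 := (hVO x).trans hO
  let ρ : Γ(X', O) →+* Γ(X', (V x).1) := (X'.presheaf.map (homOfLE (hVO x)).op).hom
  have hρ : (f.appLE U.1 (V x).1 hle).hom = ρ.comp (f.appLE U.1 O hO).hom := by
    rw [← Scheme.Hom.appLE_map f hO (homOfLE (hVO x)).op]
    rfl
  have hI : Ideal.span {g x} = Ideal.span {ρ ((f.appLE U.1 O hO) a₀)} := by
    rw [← hgV x, FpqcDescent.ideal_comap_appLE J f U (V x) hle, hρ, ← Ideal.map_map, hgen, Ideal.map_span,
      Set.image_singleton]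
  obtain ⟨v, hv⟩ := Ideal.mem_span_singleton'.1 (hI ▸ Ideal.mem_span_singleton_self (g x))
  obtain ⟨w, hw⟩ := Ideal.mem_span_singleton'.1
    (hI.symm ▸ Ideal.mem_span_singleton_self (ρ ((f.appLE U.1 O hO) a₀)))
  have hvw : v * w = 1 := by
    refine (mul_cancel_right_mem_nonZeroDivisors (hg x)).1 ?_
    rw [mul_assoc, hw, hv, one_mul]
  show ρ z = ρ 0
  have h0 : ρ z * ρ ((f.appLE U.1 O hO) a₀) = 0 := by rw [← map_mul, hz, map_zero]
  rw [← hw, ← mul_assoc] at h0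
  have h1 := (hg x).2 _ h0
  rw [map_zero, ← mul_one (ρ z), ← hvw, mul_left_comm, h1, mul_zero]

set_option maxHeartbeats 1600000 in
theorem chart_core {π : P ⟶ X} {f : X' ⟶ X} {j : X' ⟶ P} (hjπ : j ≫ π = f) (J : X.IdealSheafData)
    (hb : BlowUp.IsBlowUp f J) (U : X.affineOpens) {m : ℕ} (a : Fin (m + 1) → Γ(X, U.1))
    (hI : J.ideal U = Ideal.span (Set.range a)) (ha : Acyclic a) {W : P.Opens} (hW : IsAffineOpen W)
    (hWU : W ≤ π ⁻¹ᵁ U.1) (co : Fin m → Γ(P, W))
    (hev : Function.Bijective (MvPolynomial.eval₂Hom (π.appLE U.1 W hWU).hom co))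
    (hO : j ⁻¹ᵁ W ≤ f ⁻¹ᵁ U.1)
    (heq : ∀ i, j.app W (co i) * f.appLE U.1 (j ⁻¹ᵁ W) hO (a 0) = f.appLE U.1 (j ⁻¹ᵁ W) hO (a i.succ))
    (hcov : ∀ x ∈ π ⁻¹ᵁ U.1, ∃ (V : P.Opens) (_ : x ∈ V) (hV : j ⁻¹ᵁ V ≤ f ⁻¹ᵁ U.1) (k : Fin (m + 1))
      (c : Γ(P, V)), j.app V c * f.appLE U.1 (j ⁻¹ᵁ V) hV (a k) = f.appLE U.1 (j ⁻¹ᵁ V) hV (a 0) ∧
        P.basicOpen c ≤ W) :
    IsClosedImmersion (j ∣_ W) ∧
      Acyclic (fun i : Fin m => π.appLE U.1 W hWU (a 0) * co i - π.appLE U.1 W hWU (a i.succ)) ∧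
        RingHom.ker (j.app W).hom =
          Ideal.span (Set.range fun i : Fin m => π.appLE U.1 W hWU (a 0) * co i - π.appLE U.1 W hWU (a i.succ)) := by
  let I : Ideal Γ(X, U.1) := J.ideal U
  have h0 : a 0 ∈ I := KoszBlow.mem_ideal a hI 0
  let ψ : Γ(X, U.1) →+* Ch I (a 0) h0 := fromA I (a 0) h0
  have hψ : ψ (a 0) ∈ nonZeroDivisors _ := fromA_mem_nonZeroDivisors I (a 0) h0
  let T : Scheme.{u} := Spec (CommRingCat.of (Ch I (a 0) h0))
  let g : T ⟶ X := Spec.map (CommRingCat.ofHom ψ) ≫ U.2.fromSpec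
  have hgc : BlowUp.IsEffCartierIdeal (J.comap g) := by
    rw [Scheme.IdealSheafData.comap_comp, comap_fromSpec_eq J U]
    exact cartier_specMap _ ψ _ hψ (map_fromA_eq I (a 0) h0)
  obtain ⟨c, hcf, -⟩ := hb.2 T g hgc
  -- the chart lands in `j⁻¹W`
  have hland : ∀ p : T, c p ∈ j ⁻¹ᵁ W := by
    intro p
    have hpU : π (j (c p)) ∈ U.1 := by
      rw [← Scheme.Hom.comp_apply, hjπ, ← Scheme.Hom.comp_apply, hcf]
      exact U.2.range_fromSpec.le ⟨_, rfl⟩
    obtain ⟨V, hxV, hV, k, y, hy, hyW⟩ := hcov (j (c p)) hpU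
    obtain ⟨D, hD, hpD, hDV⟩ := exists_isAffineOpen_mem_and_subset (X := T) (U := c ⁻¹ᵁ (j ⁻¹ᵁ V))
      (show p ∈ c ⁻¹ᵁ (j ⁻¹ᵁ V) from hxV)
    have hDU : D ≤ g ⁻¹ᵁ U.1 := by
      rw [← hcf, Scheme.Hom.comp_preimage]
      exact le_trans hDV (c.preimage_mono hV)
    let δ : Ch I (a 0) h0 →+* Γ(T, D) :=
      (T.presheaf.map (homOfLE (le_top : D ≤ ⊤)).op).hom.comp
        (Scheme.ΓSpecIso (CommRingCat.of (Ch I (a 0) h0))).inv.hom
    have hval : ∀ r, c.appLE (j ⁻¹ᵁ V) D hDV (f.appLE U.1 (j ⁻¹ᵁ V) hV r) = δ (ψ r) := by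
      intro r
      rw [← CommRingCat.comp_apply, Scheme.Hom.appLE_comp_appLE]
      exact appLE_spec_fromSpec U.2 ψ hcf D _ r
    have hnz : δ (ψ (a 0)) ∈ nonZeroDivisors _ := by
      refine BlowUpLib.mem_nonZeroDivisors_map_of_flat _
        (BlowUpLib.flat_res (isAffineOpen_top T) hD le_top) ?_
      exact mem_nonZeroDivisors_of_injective
        (f := (Scheme.ΓSpecIso (CommRingCat.of (Ch I (a 0) h0))).commRingCatIsoToRingEquiv)
        (RingEquiv.injective _) (by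
          convert hψ using 1
          exact (Scheme.ΓSpecIso (CommRingCat.of (Ch I (a 0) h0))).inv_hom_id_apply _)
    obtain ⟨t, ht⟩ := Ideal.mem_span_singleton'.1 (fromA_mem_span I (a 0) h0 (KoszBlow.mem_ideal a hI k))
    have hu : IsUnit (c.appLE (j ⁻¹ᵁ V) D hDV (j.app V y)) := by
      refine IsUnit.of_mul_eq_one (δ t) ((mul_cancel_right_mem_nonZeroDivisors hnz).1 ?_)
      have h := congrArg (c.appLE (j ⁻¹ᵁ V) D hDV) hy
      rw [map_mul, hval, hval] at h
      rw [mul_assoc, ← map_mul, one_mul]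
      rwa [show t * ψ (a 0) = ψ (a k) from ht]
    have hsub : D ≤ c ⁻¹ᵁ (X'.basicOpen (j.app V y)) := by
      rw [Scheme.preimage_basicOpen]
      intro q hq
      have : q ∈ T.basicOpen (c.appLE (j ⁻¹ᵁ V) D hDV (j.app V y)) := by
        rwa [T.basicOpen_of_isUnit hu]
      rw [Scheme.Hom.appLE, CommRingCat.comp_apply, T.basicOpen_res] at this
      exact this.2
    have := hsub hpD
    rw [← Scheme.preimage_basicOpen] at this
    exact hyW this
  let O : X'.Opens := j ⁻¹ᵁ W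
  let φO : Γ(X, U.1) →+* Γ(X', O) := (f.appLE U.1 O hO).hom
  have hgen : I.map φO = Ideal.span {φO (a 0)} := by
    show (J.ideal U).map φO = _
    rw [hI, Ideal.map_span, ← Set.range_comp]
    refine le_antisymm (Ideal.span_le.2 ?_) (Ideal.span_le.2 ?_)
    · rintro _ ⟨l, rfl⟩
      refine Fin.cases ?_ (fun i => ?_) l
      · exact Ideal.mem_span_singleton_self _
      · exact Ideal.mem_span_singleton'.2 ⟨_, heq i⟩
    · rintro _ rfl
      exact Ideal.subset_span ⟨0, rfl⟩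
  have hnzd : φO (a 0) ∈ nonZeroDivisors Γ(X', O) := nzd_of_cartier J hb.1 hO hgen
  obtain ⟨χ, hχ⟩ := exists_chartHom I (a 0) h0 φO hnzd hgen
  let o : O.toScheme ⟶ T := O.toSpecΓ ≫ Spec.map (CommRingCat.ofHom χ)
  have hog : o ≫ g = O.ι ≫ f := by
    simp only [o, g, Category.assoc]
    rw [← Spec.map_comp_assoc,
      show CommRingCat.ofHom ψ ≫ CommRingCat.ofHom χ = f.appLE U.1 O hO from CommRingCat.hom_ext hχ,
      Scheme.Opens.toSpecΓ_SpecMap_appLE_assoc, ← U.2.isoSpec_hom, U.2.isoSpec_hom_fromSpec,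
      Scheme.Hom.resLE_comp_ι]
  have hoc : o ≫ c = O.ι := by
    have hcart : BlowUp.IsEffCartierIdeal (J.comap (O.ι ≫ f)) := by
      rw [Scheme.IdealSheafData.comap_comp]
      exact BlowUpLib.cartier_comap_flat hb.1 _
    exact (hb.2 _ (O.ι ≫ f) hcart).unique (by rw [Category.assoc, hcf, hog]) rfl
  let c' : T ⟶ O.toScheme := IsOpenImmersion.lift O.ι c (by
    rw [Scheme.Opens.range_ι]
    rintro _ ⟨p, rfl⟩
    exact hland p)
  have hc' : c' ≫ O.ι = c := IsOpenImmersion.lift_fac _ _ _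
  have ho1 : o ≫ c' = 𝟙 _ := by rw [← cancel_mono O.ι, Category.assoc, hc', hoc, Category.id_comp]
  have ho2 : c' ≫ o = 𝟙 T := by
    obtain ⟨φ, hφ⟩ := Spec.map_surjective (c' ≫ o)
    have h1 : (c' ≫ o) ≫ g = g := by rw [Category.assoc, hog, ← Category.assoc, hc', hcf]
    rw [← hφ] at h1 ⊢
    have h2 : Spec.map (CommRingCat.ofHom ψ ≫ φ) = Spec.map (CommRingCat.ofHom ψ) := by
      rw [← cancel_mono U.2.fromSpec, Spec.map_comp, Category.assoc]
      exact h1
    have h3 : φ.hom.comp ψ = ψ := congrArg CommRingCat.Hom.hom (Spec.map_injective h2)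
    rw [show φ = 𝟙 _ from CommRingCat.hom_ext
      (chartHom_ext I (a 0) h0 ψ hψ φ.hom (RingHom.id _) h3 (RingHom.id_comp _))]
    exact Spec.map_id _
  haveI : IsIso c' := ⟨o, ho2, ho1⟩
  haveI : IsIso o := ⟨c', ho1, ho2⟩
  have hcO : (⊤ : T.Opens) ≤ c ⁻¹ᵁ O := fun p _ => hland p
  let θ : Γ(X', O) →+* Ch I (a 0) h0 :=
    (c.appLE O ⊤ hcO ≫ (Scheme.ΓSpecIso (CommRingCat.of (Ch I (a 0) h0))).hom).hom
  have hθ : Function.Bijective θ := by
    haveI : IsIso (c.appLE O ⊤ hcO) := by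
      have e : ∀ (d : T ⟶ X') (_ : d = c) (h' : (⊤ : T.Opens) ≤ d ⁻¹ᵁ O),
          c.appLE O ⊤ hcO = d.appLE O ⊤ h' := by rintro d rfl h'; rfl
      rw [e _ hc' (by rw [hc']; exact hcO), ← Scheme.Hom.appLE_comp_appLE c' O.ι O ⊤ ⊤ (fun x _ => x.2) le_top, Scheme.Opens.ι_appLE]
      haveI : IsIso (X'.presheaf.map (homOfLE (x := O.ι ''ᵁ ⊤) (y := O) O.ι_image_top.le).op) := by
        rw [show (homOfLE (x := O.ι ''ᵁ ⊤) (y := O) O.ι_image_top.le) = eqToHom O.ι_image_top from rfl]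
        infer_instance
      haveI : IsIso (c'.appLE ⊤ ⊤ le_top) := by
        rw [show c'.appLE ⊤ ⊤ le_top = c'.appTop from (Scheme.Hom.app_eq_appLE c').symm]
        infer_instance
      infer_instance
    exact ConcreteCategory.bijective_of_isIso (c.appLE O ⊤ hcO ≫ (Scheme.ΓSpecIso _).hom)
  have hθψ : ∀ r, θ (φO r) = ψ r := by
    intro r
    have h1 := appLE_spec_fromSpec U.2 ψ hcf ⊤ (by
      rw [Scheme.Hom.comp_preimage]; exact hcO.trans (c.preimage_mono hO)) r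
    show (Scheme.ΓSpecIso _).hom (c.appLE O ⊤ hcO (f.appLE U.1 O hO r)) = _
    rw [← CommRingCat.comp_apply (f.appLE U.1 O hO), Scheme.Hom.appLE_comp_appLE, h1]
    simp
  let ev : MvPolynomial (Fin m) Γ(X, U.1) →+* Γ(P, W) := MvPolynomial.eval₂Hom (π.appLE U.1 W hWU).hom co
  have hcomp : (θ.comp (j.app W).hom).comp ev = pres a hI := by
    refine MvPolynomial.ringHom_ext (fun r => ?_) fun i => ?_
    · have e : j.app W (π.appLE U.1 W hWU r) = φO r := by
        rw [← CommRingCat.comp_apply, Scheme.Hom.app_eq_appLE, Scheme.Hom.appLE_comp_appLE]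
        simp only [hjπ]
        rfl
      simp only [RingHom.comp_apply, ev, MvPolynomial.eval₂Hom_C]
      rw [pres_C]
      exact (congrArg θ e).trans (hθψ r)
    · refine (mul_cancel_right_mem_nonZeroDivisors hψ).1 ((?_ : _ = ψ (a i.succ)).trans (pres_X a hI i).symm)
      simp only [RingHom.comp_apply, ev, MvPolynomial.eval₂Hom_X']
      rw [← hθψ (a 0), ← map_mul, ← hθψ]
      exact congrArg θ (heq i)
  have hsurj : Function.Surjective (j.app W) := by
    have h1 : Function.Surjective (θ.comp (j.app W).hom) := fun z => by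
      obtain ⟨p, hp⟩ := pres_surjective a hI z
      exact ⟨ev p, by rw [← RingHom.comp_apply (θ.comp _) ev, hcomp, hp]⟩
    intro y
    obtain ⟨x, hx⟩ := h1 (θ y)
    exact ⟨x, hθ.1 hx⟩
  have hG : ev ∘ eqn a = fun i : Fin m => π.appLE U.1 W hWU (a 0) * co i - π.appLE U.1 W hWU (a i.succ) :=
    funext fun i => by simp [ev, eqn]
  rw [← hG]
  refine ⟨?_, ?_, ?_⟩
  · haveI : IsAffine W.toScheme := hW
    haveI : IsAffine O.toScheme := IsAffine.of_isIso o
    refine IsClosedImmersion.of_surjective_of_isAffine (j ∣_ W) ?_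
    rw [morphismRestrict_appTop]
    have h2 : Function.Surjective (j.app (W.ι ''ᵁ ⊤)) := by
      have : ∀ V, V = W → Function.Surjective (j.app V) := by rintro V rfl; exact hsurj
      exact this _ W.ι_image_top
    have h3 := (ConcreteCategory.bijective_of_isIso
      (X'.presheaf.map (eqToHom (image_morphismRestrict_preimage j W ⊤)).op)).2.comp h2
    exact h3
  · let _ := ev.toAlgebra
    haveI : Module.Flat (MvPolynomial (Fin m) Γ(X, U.1)) Γ(P, W) :=
      RingHom.flat_algebraMap_iff.1 (RingHom.Flat.of_bijective hev)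
    exact KoszulLib.acyclic_baseChange Γ(P, W) (KoszBlow.acyclic_eqn a ha)
  · have hk : RingHom.ker (pres a hI) = (RingHom.ker (j.app W).hom).comap ev := by
      rw [← hcomp, ← RingHom.comap_ker, RingHom.ker_comp_of_injective _ hθ.1]
    rw [← Ideal.map_comap_of_surjective ev hev.2 (RingHom.ker (j.app W).hom), ← hk, ker_pres a hI ha,
      Ideal.map_span, Set.range_comp]

end Groth.Agent.BlowBC
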