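import Groth.Agent.KoszBlow.Chart
import Groth.Agent.BlowExc.Flat
import Mathlib

/-!
# Blow-up charts under base change: when does the exceptional equation stay regular?
-/

set_option autoImplicit false
set_option linter.style.haveILetI false
set_option maxSynthPendingDepth 4
universe u

open TensorProduct

namespace Groth.Agent.BlowBC

open BlowUpExist KoszBlow
open Wiebe (Acyclic)

/-- the coordinate ring of the chart of `a` -/
abbrev Ch {A : Type u} [CommRing A] (I : Ideal A) (a : A) (ha : a ∈ I) : Type u :=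
  HomogeneousLocalization.Away (Rees.deg (reesAlgebra I)) (tt I a ha)

/-- the equation of the exceptional divisor in the chart of `a` stays regular along `φ` -/
def Good {A A' : Type u} [CommRing A] [CommRing A'] (φ : A →+* A') (I : Ideal A) (a : A) (ha : a ∈ I) : Prop :=
  letI := φ.toAlgebra
  letI := (fromA I a ha).toAlgebra
  ((1 : A') ⊗ₜ[A] (fromA I a ha a) : A' ⊗[A] Ch I a ha) ∈ nonZeroDivisors _

theorem good_of_isUnit {A A' : Type u} [CommRing A] [CommRing A'] (φ : A →+* A') (I : Ideal A) (a : A) (ha : a ∈ I)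
    (hu : IsUnit a) : Good φ I a ha := by
  let _ := φ.toAlgebra
  let _ := (fromA I a ha).toAlgebra
  exact ((hu.map (fromA I a ha)).map
    (Algebra.TensorProduct.includeRight : Ch I a ha →ₐ[A] A' ⊗[A] Ch I a ha)).mem_nonZeroDivisors

theorem good_congr {A A' : Type u} [CommRing A] [CommRing A'] (φ : A →+* A') {I : Ideal A} {b c : A}
    (h : b = c) {hb : b ∈ I} {hc : c ∈ I} (hG : Good φ I b hb) : Good φ I c hc := by
  subst h; exact hG

section Acyclic

variable {A A' : Type u} [CommRing A] [CommRing A'] (φ : A →+* A') {n : ℕ} (a : Fin (n + 1) → A) {I : Ideal A}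
  (hI : I = Ideal.span (Set.range a))

set_option maxHeartbeats 1600000 in
theorem good_zero (ha : Acyclic a) (ha' : Acyclic (φ ∘ a)) : Good φ I (a 0) (KoszBlow.mem_ideal a hI 0) := by
  let _ := φ.toAlgebra
  let _ := (fromA I (a 0) (KoszBlow.mem_ideal a hI 0)).toAlgebra
  let I' : Ideal A' := Ideal.span (Set.range (φ ∘ a))
  let f : A →+* Ch I' ((φ ∘ a) 0) (KoszBlow.mem_ideal (φ ∘ a) rfl 0) :=
    (fromA I' ((φ ∘ a) 0) (KoszBlow.mem_ideal (φ ∘ a) rfl 0)).comp φ
  have hnzd : f (a 0) ∈ nonZeroDivisors _ := fromA_mem_nonZeroDivisors I' _ _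
  have hgen : I.map f = Ideal.span {f (a 0)} := by
    show I.map ((fromA I' _ _).comp φ) = _
    rw [← Ideal.map_map, show I.map φ = I' by rw [hI, Ideal.map_span, ← Set.range_comp]]
    exact map_fromA_eq I' _ _
  obtain ⟨χ, hχ⟩ := exists_chartHom I (a 0) (KoszBlow.mem_ideal a hI 0) f hnzd hgen
  let _ : Algebra A (Ch I' ((φ ∘ a) 0) (KoszBlow.mem_ideal (φ ∘ a) rfl 0)) := f.toAlgebra
  let θ : A' ⊗[A] Ch I (a 0) (KoszBlow.mem_ideal a hI 0) →ₐ[A] Ch I' ((φ ∘ a) 0) (KoszBlow.mem_ideal (φ ∘ a) rfl 0) :=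
    Algebra.TensorProduct.lift
      ({ fromA I' ((φ ∘ a) 0) (KoszBlow.mem_ideal (φ ∘ a) rfl 0) with commutes' := fun _ => rfl })
      ({ χ with commutes' := fun x => RingHom.congr_fun hχ x })
      fun _ _ => Commute.all _ _
  let τ : MvPolynomial (Fin n) A' →+* A' ⊗[A] Ch I (a 0) (KoszBlow.mem_ideal a hI 0) :=
    MvPolynomial.eval₂Hom Algebra.TensorProduct.includeLeftRingHom
      fun i => (1 : A') ⊗ₜ[A] (pres a hI (MvPolynomial.X i))
  have hτmap : ∀ q, τ (MvPolynomial.map φ q) = (1 : A') ⊗ₜ[A] pres a hI q := by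
    intro q
    refine RingHom.congr_fun (f := τ.comp (MvPolynomial.map φ))
      (g := (Algebra.TensorProduct.includeRight : Ch I (a 0) _ →ₐ[A] A' ⊗[A] _).toRingHom.comp (pres a hI)) ?_ q
    refine MvPolynomial.ringHom_ext (fun r => ?_) fun i => ?_
    · simp only [RingHom.comp_apply, τ, MvPolynomial.map_C, MvPolynomial.eval₂Hom_C, pres_C]
      exact (Algebra.TensorProduct.includeLeftRingHom_apply _).trans
        ((Algebra.TensorProduct.algebraMap_apply r).symm.trans
          (Algebra.TensorProduct.includeRight.commutes r).symm)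
    · simp [τ]
  have hτsurj : Function.Surjective τ := by
    intro z
    induction z using TensorProduct.induction_on with
    | zero => exact ⟨0, map_zero _⟩
    | tmul x y =>
      obtain ⟨q, rfl⟩ := pres_surjective a hI y
      refine ⟨MvPolynomial.C x * MvPolynomial.map φ q, ?_⟩
      rw [map_mul, hτmap]
      simp [τ]
    | add x y hx hy =>
      obtain ⟨p, rfl⟩ := hx
      obtain ⟨q, rfl⟩ := hy
      exact ⟨p + q, map_add _ _ _⟩
  have hθτ : θ.toRingHom.comp τ = pres (φ ∘ a) (I := I') rfl := by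
    refine MvPolynomial.ringHom_ext (fun r => ?_) fun i => ?_
    · simp [θ, τ, pres_C]
    · have e1 := pres_X (φ ∘ a) (I := I') rfl i
      have e2 := congrArg χ (pres_X a hI i)
      rw [map_mul, ← RingHom.comp_apply χ (fromA I (a 0) _), ← RingHom.comp_apply χ (fromA I (a 0) _), hχ] at e2
      have : θ.toRingHom.comp τ (MvPolynomial.X i) = χ (pres a hI (MvPolynomial.X i)) := by simp [θ, τ]
      rw [this]
      exact (mul_cancel_right_mem_nonZeroDivisors hnzd).1 (e2.trans e1.symm)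
  have heqn : ∀ i, MvPolynomial.map φ (eqn a i) = eqn (φ ∘ a) i := fun i => by simp [eqn]
  have hinj : Function.Injective θ := by
    rw [injective_iff_map_eq_zero]
    intro z hz
    obtain ⟨p, rfl⟩ := hτsurj z
    have hp : p ∈ RingHom.ker (pres (φ ∘ a) (I := I') rfl) := by rw [RingHom.mem_ker, ← hθτ]; exact hz
    rw [ker_pres (φ ∘ a) rfl ha'] at hp
    refine RingHom.mem_ker.1 ((Ideal.span_le.2 ?_) hp)
    rintro _ ⟨i, rfl⟩
    show τ (eqn (φ ∘ a) i) = 0
    have h0 : pres a hI (eqn a i) = 0 := by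
      rw [← RingHom.mem_ker, ker_pres a hI ha]; exact Ideal.subset_span ⟨i, rfl⟩
    rw [← heqn, hτmap, h0, TensorProduct.tmul_zero]
  refine mem_nonZeroDivisors_of_injective hinj ?_
  have : θ ((1 : A') ⊗ₜ[A] fromA I (a 0) (KoszBlow.mem_ideal a hI 0) (a 0)) = f (a 0) := by
    simp only [θ, Algebra.TensorProduct.lift_tmul]
    rw [map_one, one_mul]
    exact RingHom.congr_fun hχ (a 0)
  rw [this]
  exact hnzd

include hI in
theorem good_of_acyclic (ha : Acyclic a) (ha' : Acyclic (φ ∘ a)) (j : Fin (n + 1)) :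
    Good φ I (a j) (KoszBlow.mem_ideal a hI j) := by
  have hI' : I = Ideal.span (Set.range (a ∘ Equiv.swap 0 j)) := by
    rw [hI, Set.range_comp, Set.range_eq_univ.2 (Equiv.swap 0 j).surjective, Set.image_univ]
  have h1 : Acyclic (φ ∘ (a ∘ Equiv.swap 0 j)) := KoszulLib.acyclic_comp_equiv (f := φ ∘ a) (Equiv.swap 0 j) ha'
  exact good_congr φ (congrArg a (Equiv.swap_apply_left 0 j))
    (good_zero φ (a ∘ Equiv.swap 0 j) hI' (KoszulLib.acyclic_comp_equiv _ ha) h1)

end Acyclic

section Flat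

variable {R A C : Type u} [CommRing R] [CommRing A] [CommRing C]
  [Algebra R A] [Algebra R C] [Algebra A C] [IsScalarTower R A C]

theorem injective_lTensor_mul {g : C} (hg : g ∈ nonZeroDivisors C) (hq : Module.Flat R (C ⧸ Ideal.span {g}))
    (N : Type u) [AddCommGroup N] [Module R N] :
    Function.Injective ((LinearMap.mulLeft R g).lTensor N) := by
  haveI := hq
  let q : C →ₗ[R] C ⧸ Ideal.span {g} := (Ideal.Quotient.mkₐ R (Ideal.span {g})).toLinearMap
  refine LinearMap.lTensor_injective_of_exact_of_flat q Ideal.Quotient.mk_surjective (LinearMap.mulLeft R g)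
    (fun x y h => (mul_cancel_left_mem_nonZeroDivisors hg).1 h) (fun x => ?_) N
  show Ideal.Quotient.mk (Ideal.span {g}) x = 0 ↔ _
  rw [Ideal.Quotient.eq_zero_iff_mem, Ideal.mem_span_singleton']
  exact ⟨fun ⟨y, hy⟩ => ⟨y, (mul_comm g y).trans hy⟩, fun ⟨y, hy⟩ => ⟨y, (mul_comm y g).trans hy⟩⟩

theorem flat_of_chart (I : Ideal A) (a : A) (ha : a ∈ I) [Module.Flat R A]
    (hg : algebraMap A C a ∈ nonZeroDivisors C) (hq : Module.Flat R (C ⧸ Ideal.span {algebraMap A C a}))
    (hsurj : ∀ z : C, ∃ (n : ℕ) (c : A), c ∈ I ^ n ∧ z * algebraMap A C a ^ n = algebraMap A C c)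
    (hker : ∀ c : A, algebraMap A C c = 0 → ∃ k : ℕ, a ^ k * c = 0)
    (hflat : ∀ n, Module.Flat R (A ⧸ I ^ n)) : Module.Flat R C := by
  refine Module.Flat.iff_rTensor_injective'.2 fun J => ?_
  let g := algebraMap A C a
  have hgn : ∀ n : ℕ, Function.Injective ((LinearMap.mulLeft R (g ^ n)).lTensor ↥J) := fun n => by
    induction n with
    | zero =>
      rw [pow_zero, LinearMap.mulLeft_one, LinearMap.lTensor_id]
      exact fun _ _ h => h
    | succ n ih =>
      rw [pow_succ, LinearMap.mulLeft_mul, LinearMap.lTensor_comp]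
      exact ih.comp (injective_lTensor_mul hg hq ↥J)
  let inc : ∀ n : ℕ, ↥(I ^ n) →ₗ[R] A := fun n => (I ^ n).subtype.restrictScalars R
  let iot : ∀ n : ℕ, ↥(I ^ n) →ₗ[R] C := fun n => (IsScalarTower.toAlgHom R A C).toLinearMap ∘ₗ inc n
  let sh : ∀ (n N : ℕ), n ≤ N → (↥(I ^ n) →ₗ[R] ↥(I ^ N)) := fun n N h =>
    { toFun := fun x => ⟨a ^ (N - n) * x.1, by
        have := Ideal.mul_mem_mul (Ideal.pow_mem_pow ha (N - n)) x.2
        rwa [← pow_add, Nat.sub_add_cancel h] at this⟩
      map_add' := fun x y => Subtype.ext (mul_add _ _ _)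
      map_smul' := fun r x => Subtype.ext (mul_smul_comm r _ _) }
  have hsh : ∀ n N (h : n ≤ N), iot N ∘ₗ sh n N h = LinearMap.mulLeft R (g ^ (N - n)) ∘ₗ iot n := fun n N h => by
    ext x
    simp [iot, inc, sh, g]
  have hm : ∀ (n N : ℕ) (h : n ≤ N) (x : ↥J ⊗[R] C) (x' : ↥J ⊗[R] ↥(I ^ n)),
      (LinearMap.mulLeft R (g ^ n)).lTensor ↥J x = (iot n).lTensor ↥J x' →
      (LinearMap.mulLeft R (g ^ N)).lTensor ↥J x = (iot N).lTensor ↥J ((sh n N h).lTensor ↥J x') :=
    fun n N h x x' hx => by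
      rw [← LinearMap.comp_apply, ← LinearMap.lTensor_comp, hsh n N h, LinearMap.lTensor_comp, LinearMap.comp_apply, ← hx,
        ← LinearMap.comp_apply, ← LinearMap.lTensor_comp, ← LinearMap.mulLeft_mul, ← pow_add, Nat.sub_add_cancel h]
  have hrep : ∀ t : ↥J ⊗[R] C, ∃ (n : ℕ) (t' : ↥J ⊗[R] ↥(I ^ n)),
      (LinearMap.mulLeft R (g ^ n)).lTensor ↥J t = (iot n).lTensor ↥J t' := by
    intro t
    induction t using TensorProduct.induction_on with
    | zero => exact ⟨0, 0, by simp⟩
    | tmul j z =>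
      obtain ⟨n, c, hc, hz⟩ := hsurj z
      refine ⟨n, j ⊗ₜ ⟨c, hc⟩, ?_⟩
      simp [iot, inc, g, ← hz, mul_comm]
    | add x y hx hy =>
      obtain ⟨n, x', hx'⟩ := hx
      obtain ⟨m, y', hy'⟩ := hy
      refine ⟨n + m, (sh n (n + m) (by omega)).lTensor ↥J x' + (sh m (n + m) (by omega)).lTensor ↥J y', ?_⟩
      rw [map_add, map_add, ← hm n (n + m) (by omega) x x' hx', ← hm m (n + m) (by omega) y y' hy']
  have hIinj : ∀ m, Function.Injective (J.subtype.rTensor ↥(I ^ m)) := fun m => by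
    haveI := hflat m
    let q : A →ₗ[R] A ⧸ I ^ m := (Ideal.Quotient.mkₐ R (I ^ m)).toLinearMap
    have h1 : Function.Injective ((inc m).lTensor ↥J) := by
      refine LinearMap.lTensor_injective_of_exact_of_flat q Ideal.Quotient.mk_surjective _
        Subtype.val_injective (fun x => ?_) _
      show Ideal.Quotient.mk (I ^ m) x = 0 ↔ _
      rw [Ideal.Quotient.eq_zero_iff_mem]
      exact ⟨fun h => ⟨⟨x, h⟩, rfl⟩, fun ⟨y, hy⟩ => hy ▸ y.2⟩
    have h2 := (Module.Flat.iff_rTensor_injective'.1 (inferInstance : Module.Flat R A) J).comp h1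
    intro x y hxy
    apply h2
    simp only [Function.comp_apply, ← LinearMap.comp_apply, LinearMap.rTensor_comp_lTensor]
    rw [← LinearMap.lTensor_comp_rTensor, LinearMap.comp_apply, LinearMap.comp_apply, hxy]
  rw [injective_iff_map_eq_zero]
  intro t ht
  obtain ⟨n, t', ht'⟩ := hrep t
  let w : ↥(I ^ n) := TensorProduct.lid R _ (J.subtype.rTensor _ t')
  have hlid : ∀ {M P : Type u} [AddCommGroup M] [Module R M] [AddCommGroup P] [Module R P] (f : M →ₗ[R] P)
      (z : R ⊗[R] M), TensorProduct.lid R P (f.lTensor R z) = f (TensorProduct.lid R M z) := by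
    intro M P _ _ _ _ f z
    induction z using TensorProduct.induction_on with
    | zero => simp
    | tmul r m => simp
    | add x y hx hy => simp [hx, hy]
  have hnat : ∀ {M P : Type u} [AddCommGroup M] [Module R M] [AddCommGroup P] [Module R P] (f : M →ₗ[R] P)
      (z : ↥J ⊗[R] M), J.subtype.rTensor P (f.lTensor ↥J z) = f.lTensor R (J.subtype.rTensor M z) := by
    intro M P _ _ _ _ f z
    rw [← LinearMap.comp_apply, LinearMap.rTensor_comp_lTensor, ← LinearMap.lTensor_comp_rTensor,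
      LinearMap.comp_apply]
  have hw : algebraMap A C w.1 = 0 := by
    have e := congrArg (fun z => TensorProduct.lid R C (J.subtype.rTensor C z)) ht'
    simp only [hnat, hlid, ht, map_zero] at e
    exact e.symm
  obtain ⟨k, hk⟩ := hker _ hw
  have hz : (sh n (n + k) (by omega)).lTensor ↥J t' = 0 := by
    apply hIinj (n + k)
    rw [map_zero, hnat]
    apply (TensorProduct.lid R _).injective
    rw [LinearEquiv.map_zero, hlid]
    exact Subtype.ext (by simpa [sh, w] using hk)
  have h0 := hm n (n + k) (by omega) t t' ht'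
  rw [hz, map_zero] at h0
  exact hgn _ (by rw [h0, map_zero])

end Flat

theorem exists_num {A : Type u} [CommRing A] (I : Ideal A) (a : A) (ha : a ∈ I) (z : Ch I a ha) :
    ∃ (n : ℕ) (c : A), c ∈ I ^ n ∧ z * fromA I a ha a ^ n = fromA I a ha c := by
  obtain ⟨n, x, hx, rfl⟩ := HomogeneousLocalization.Away.mk_surjective (Rees.deg (reesAlgebra I)) (tt_mem I a ha) z
  have hx' : x ∈ Rees.deg (reesAlgebra I) n := by simpa using hx
  refine ⟨n, ev1 I x, ?_, ?_⟩
  · rw [eq_mono_of_mem I hx', ev1_mono]; exact coeff_mem I n x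
  · rw [← map_pow]; exact val_mul_pow I a ha n x hx

theorem exists_pow_mul_eq_zero {A : Type u} [CommRing A] (I : Ideal A) (a : A) (ha : a ∈ I) (c : A)
    (hc : fromA I a ha c = 0) : ∃ k : ℕ, a ^ k * c = 0 := by
  let T := Localization.Away a
  have hu : IsUnit (algebraMap A T a) := IsLocalization.Away.algebraMap_isUnit a
  obtain ⟨χ, hχ⟩ := exists_chartHom I a ha (algebraMap A T) hu.mem_nonZeroDivisors
    (by rw [Ideal.span_singleton_eq_top.2 hu,
      Ideal.eq_top_of_isUnit_mem _ (Ideal.mem_map_of_mem _ ha) hu])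
  have h0 : algebraMap A T c = 0 := by rw [← hχ, RingHom.comp_apply, hc, map_zero]
  obtain ⟨⟨_, k, rfl⟩, hk⟩ := (IsLocalization.map_eq_zero_iff (Submonoid.powers a) T c).1 h0
  exact ⟨k, hk⟩

theorem flat_hom {R A C : Type u} [CommRing R] [CommRing A] [CommRing C] (φ : R →+* A) (ψ : A →+* C)
    (hφ : φ.Flat) (I : Ideal A) (a : A) (ha : a ∈ I) (hg : ψ a ∈ nonZeroDivisors C)
    (hq : ((Ideal.Quotient.mk (Ideal.span {ψ a})).comp (ψ.comp φ)).Flat)
    (hsurj : ∀ z : C, ∃ (n : ℕ) (c : A), c ∈ I ^ n ∧ z * ψ a ^ n = ψ c)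
    (hker : ∀ c : A, ψ c = 0 → ∃ k : ℕ, a ^ k * c = 0)
    (hflat : ∀ n, ((Ideal.Quotient.mk (I ^ (n + 1))).comp φ).Flat) : (ψ.comp φ).Flat := by
  letI := φ.toAlgebra
  letI := ψ.toAlgebra
  letI := (ψ.comp φ).toAlgebra
  haveI : IsScalarTower R A C := .of_algebraMap_eq fun _ => rfl
  haveI : Module.Flat R A := RingHom.flat_algebraMap_iff.1 hφ
  have hall : ∀ n, Module.Flat R (A ⧸ I ^ n) := fun n => by
    cases n with
    | zero =>
      haveI : Subsingleton (A ⧸ I ^ 0) := Ideal.Quotient.subsingleton_iff.2 (by simp)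
      infer_instance
    | succ n => exact RingHom.flat_algebraMap_iff.1 (hflat n)
  exact RingHom.flat_algebraMap_iff.2 (flat_of_chart (R := R) (A := A) (C := C) I a ha hg
    (RingHom.flat_algebraMap_iff.1 hq) hsurj hker hall)

/-- a chart of the blow-up of a flat algebra in an ideal with flat thickenings is flat -/
theorem flat_fromA {R A : Type u} [CommRing R] [CommRing A] (φ : R →+* A) (hφ : φ.Flat) (I : Ideal A) (a : A)
    (ha : a ∈ I) (hflat : ∀ n, ((Ideal.Quotient.mk (I ^ (n + 1))).comp φ).Flat) :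
    ((fromA I a ha).comp φ).Flat :=
  flat_hom φ (fromA I a ha) hφ I a ha (fromA_mem_nonZeroDivisors I a ha) (BlowExc.flat_chart φ I a ha hflat)
    (exists_num I a ha) (exists_pow_mul_eq_zero I a ha) hflat

theorem nzd_hom {R A A' C R' : Type u} [CommRing R] [CommRing A] [CommRing A'] [CommRing C] [CommRing R']
    [Algebra R A] [Algebra R R'] [Algebra R C] [Algebra A C] [IsScalarTower R A C] [Algebra A A']
    (ε : A ⊗[R] R' ≃+* A') (hε : ∀ x : A, ε (x ⊗ₜ[R] (1 : R')) = algebraMap A A' x)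
    (g : C) (hg : g ∈ nonZeroDivisors C) (hq : Module.Flat R (C ⧸ Ideal.span {g})) :
    ((1 : A') ⊗ₜ[A] g : A' ⊗[A] C) ∈ nonZeroDivisors _ := by
  let f : A ⊗[R] R' →ₐ[R] C ⊗[R] R' :=
    Algebra.TensorProduct.map (IsScalarTower.toAlgHom R A C) (AlgHom.id R R')
  have hf : ∀ x : A, f.toRingHom.comp ε.symm.toRingHom (algebraMap A A' x) = algebraMap A C x ⊗ₜ[R] (1 : R') :=
    fun x => by
      show f (ε.symm (algebraMap A A' x)) = _
      rw [← hε, RingEquiv.symm_apply_apply]
      simp [f]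
  let f' : A' →ₐ[A] C ⊗[R] R' := { f.toRingHom.comp ε.symm.toRingHom with commutes' := hf }
  let g' : C →ₐ[A] C ⊗[R] R' :=
    { (Algebra.TensorProduct.includeLeftRingHom : C →+* C ⊗[R] R') with commutes' := fun _ => rfl }
  let θ : A' ⊗[A] C →ₐ[A] C ⊗[R] R' :=
    Algebra.TensorProduct.lift f' g' fun _ _ => Commute.all _ _
  let ν : C ⊗[R] R' →+ A' ⊗[A] C :=
    TensorProduct.liftAddHom (AddMonoidHom.mk' (fun c => AddMonoidHom.mk' (fun r => (ε ((1 : A) ⊗ₜ[R] r)) ⊗ₜ[A] c)
      (fun r s => by rw [TensorProduct.tmul_add, map_add, TensorProduct.add_tmul]))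
      (fun c d => AddMonoidHom.ext fun r => TensorProduct.tmul_add _ _ _)) (fun r c s => by
        show ε ((1 : A) ⊗ₜ[R] s) ⊗ₜ[A] (r • c) = ε ((1 : A) ⊗ₜ[R] (r • s)) ⊗ₜ[A] c
        rw [← IsScalarTower.algebraMap_smul A r c, ← TensorProduct.smul_tmul]
        congr 1
        rw [Algebra.smul_def, ← hε, ← map_mul, Algebra.TensorProduct.tmul_mul_tmul, mul_one, one_mul,
          Algebra.algebraMap_eq_smul_one, TensorProduct.smul_tmul])
  have hνθ : ∀ z, ν (θ z) = z := fun z => by
    induction z using TensorProduct.induction_on with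
    | zero => rw [map_zero, map_zero]
    | add x y hx hy => rw [map_add, map_add, hx, hy]
    | tmul p c =>
      obtain ⟨p, rfl⟩ := ε.surjective p
      induction p using TensorProduct.induction_on with
      | zero => rw [map_zero, TensorProduct.zero_tmul, map_zero, map_zero]
      | add x y hx hy => rw [map_add, TensorProduct.add_tmul, map_add, map_add, hx, hy]
      | tmul x r =>
        have e : θ (ε (x ⊗ₜ[R] r) ⊗ₜ[A] c) = (algebraMap A C x * c) ⊗ₜ[R] r := by
          show f (ε.symm (ε (x ⊗ₜ r))) * (c ⊗ₜ 1) = _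
          rw [RingEquiv.symm_apply_apply]
          simp [f]
        rw [e, ← Algebra.smul_def]
        show ε ((1 : A) ⊗ₜ[R] r) ⊗ₜ[A] (x • c) = _
        rw [← TensorProduct.smul_tmul]
        congr 1
        rw [Algebra.smul_def, ← hε, ← map_mul, Algebra.TensorProduct.tmul_mul_tmul, mul_one, one_mul]
  refine mem_nonZeroDivisors_of_injective (f := θ) (Function.LeftInverse.injective hνθ) ?_
  have e : θ ((1 : A') ⊗ₜ[A] g) = g ⊗ₜ[R] (1 : R') := by
    show f' 1 * (g ⊗ₜ[R] (1 : R')) = _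
    rw [map_one, one_mul]
  rw [e]
  have hinj := injective_lTensor_mul (R := R) hg hq R'
  have hc : ∀ w : C ⊗[R] R', (TensorProduct.comm R _ _) ((g ⊗ₜ[R] (1 : R')) * w) =
      (LinearMap.mulLeft R g).lTensor R' (TensorProduct.comm R _ _ w) := fun w => by
    induction w using TensorProduct.induction_on with
    | zero => simp
    | tmul c r => simp
    | add x y hx hy => rw [mul_add, map_add, map_add, map_add, hx, hy]
  have h0 : ∀ w : C ⊗[R] R', (g ⊗ₜ[R] (1 : R')) * w = 0 → w = 0 := fun w hw => by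
    have h1 := hc w
    rw [hw, map_zero, eq_comm] at h1
    exact (TensorProduct.comm R _ _).injective (by rw [map_zero]; exact hinj (by rw [h1, map_zero]))
  exact ⟨h0, fun w hw => h0 w (by rw [mul_comm]; exact hw)⟩

/-- flat thickenings keep the exceptional equation regular under base change -/
theorem good_of_flat_quot {R A R' : Type u} [CommRing R] [CommRing A] [CommRing R'] [Algebra R A] [Algebra R R']
    (I : Ideal A) (a : A) (ha : a ∈ I) (hflat : ∀ n, Module.Flat R (A ⧸ I ^ (n + 1))) :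
    Good (Algebra.TensorProduct.includeLeftRingHom : A →+* A ⊗[R] R') I a ha := by
  have hq := BlowExc.flat_chart (algebraMap R A) I a ha fun n => RingHom.flat_algebraMap_iff.2 (hflat n)
  letI i1 : Algebra A (Ch I a ha) := (fromA I a ha).toAlgebra
  letI i2 : Algebra R (Ch I a ha) := ((fromA I a ha).comp (algebraMap R A)).toAlgebra
  haveI : @IsScalarTower R A (Ch I a ha) _ i1.toSMul i2.toSMul := @IsScalarTower.of_algebraMap_eq R A (Ch I a ha) _ _ _ _ i1 i2 fun _ => rfl
  let _ := (Algebra.TensorProduct.includeLeftRingHom : A →+* A ⊗[R] R').toAlgebra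
  exact nzd_hom (RingEquiv.refl (A ⊗[R] R')) (fun _ => rfl) (fromA I a ha a) (fromA_mem_nonZeroDivisors I a ha)
    (RingHom.flat_algebraMap_iff.1 hq)

end Groth.Agent.BlowBC
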