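import Groth.Agent.BlowBC.Ring
import Groth.Agent.KoszBlow.Scheme
import Groth.Agent.BlowExc.FlatGlobal
import Mathlib

/-!
# Base change of blow-ups from a regularity condition on the charts
-/

set_option autoImplicit false
set_option linter.style.haveILetI false
set_option maxSynthPendingDepth 4
set_option backward.isDefEq.respectTransparency false
universe u

open CategoryTheory AlgebraicGeometry Limits TopologicalSpace TensorProduct

namespace Groth.Agent.BlowBC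

open BlowUpExist

theorem comap_fromSpec_eq {X : Scheme.{u}} (𝓘 : X.IdealSheafData) (U : X.affineOpens) :
    𝓘.comap U.2.fromSpec = sheafOf (𝓘.ideal U) := by
  refine Scheme.IdealSheafData.ext_of_isAffine ?_
  rw [ideal_comap_fromSpec]
  exact ((Scheme.IdealSheafData.equivOfIsAffine (X := Spec Γ(X, U.1))).apply_symm_apply _).symm

/-- charts of a blow-up over an affine open, one for each of given generators -/
theorem exists_chart_of_gens {X B : Scheme.{u}} (𝓘 : X.IdealSheafData) (b : B ⟶ X) (hb : BlowUp.IsBlowUp b 𝓘)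
    (U : X.affineOpens) {m : ℕ} (a : Fin m → Γ(X, U.1)) (hI : 𝓘.ideal U = Ideal.span (Set.range a)) (z : B)
    (hz : b z ∈ U.1) :
    ∃ (i : Fin m) (ha : a i ∈ 𝓘.ideal U) (c : Spec (CommRingCat.of (Ch (𝓘.ideal U) (a i) ha)) ⟶ B),
      IsOpenImmersion c ∧ z ∈ Set.range c ∧
        c ≫ b = Spec.map (CommRingCat.ofHom (fromA (𝓘.ideal U) (a i) ha)) ≫ U.2.fromSpec := by
  let u : Spec Γ(X, U.1) ⟶ X := U.2.fromSpec
  let I : Ideal Γ(X, U.1) := 𝓘.ideal U
  have hbu := BlowUpLib.isBlowUp_flat u hb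
  rw [comap_fromSpec_eq 𝓘 U] at hbu
  have h0 := isBlowUp_affine I
  obtain ⟨k, hk, -⟩ := h0.2 _ (pullback.fst u b) hbu.1
  obtain ⟨l, hl, -⟩ := hbu.2 _ (structMap I) h0.1
  haveI : IsIso l := ⟨k, (h0.2 _ _ h0.1).unique (by rw [Category.assoc, hk, hl]) (Category.id_comp _),
    (hbu.2 _ _ hbu.1).unique (by rw [Category.assoc, hl, hk]) (Category.id_comp _)⟩
  obtain ⟨p, hp⟩ : z ∈ Set.range (pullback.snd u b) := by
    rw [Scheme.Pullback.range_snd]
    show b z ∈ Set.range u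
    rw [IsAffineOpen.range_fromSpec]
    exact hz
  obtain ⟨p', hp'⟩ := l.surjective p
  have hmem : ∀ j, a j ∈ I := fun j => hI.ge (Ideal.subset_span ⟨j, rfl⟩)
  let 𝒰 := Proj.affineOpenCoverOfIrrelevantLESpan (Rees.deg (reesAlgebra I))
    (fun j : Fin m => tt I (a j) (hmem j)) (m := fun _ => 1)
    (fun j => tt_mem I _ _) (fun _ => one_pos) (KoszBlow.irrelevant_le_gens a hI)
  let i : Fin m := 𝒰.idx p'
  have ha : a i ∈ I := hmem i
  obtain ⟨q, hq⟩ : p' ∈ Set.range (chart I (a i) ha) := 𝒰.covers p'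
  refine ⟨i, ha, chart I (a i) ha ≫ l ≫ pullback.snd u b, inferInstance, ⟨q, ?_⟩, ?_⟩
  · rw [Scheme.Hom.comp_apply, Scheme.Hom.comp_apply, hq, hp', hp]
  · simp only [Category.assoc, ← pullback.condition]
    rw [reassoc_of% hl, ← Category.assoc, chart_structMap]

/-- The regularity condition for base change at the point `x₁`. -/
def GoodAt {X X₁ : Scheme.{u}} (𝓘 : X.IdealSheafData) (g : X₁ ⟶ X) (x₁ : X₁) : Prop :=
  ∃ (U : X.affineOpens) (A' : Type u) (_ : CommRing A') (φ : Γ(X, U.1) →+* A')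
    (j : Spec (CommRingCat.of A') ⟶ X₁) (m : ℕ) (a : Fin m → Γ(X, U.1)),
    IsOpenImmersion j ∧ x₁ ∈ Set.range j ∧ j ≫ g = Spec.map (CommRingCat.ofHom φ) ≫ U.2.fromSpec ∧
      𝓘.ideal U = Ideal.span (Set.range a) ∧ ∀ (i : Fin m) (h : a i ∈ 𝓘.ideal U), Good φ (𝓘.ideal U) (a i) h

set_option maxHeartbeats 1600000 in
theorem exists_cartier_piece {X X₁ B P : Scheme.{u}} (𝓘 : X.IdealSheafData) {g : X₁ ⟶ X} {b : B ⟶ X}
    {p : P ⟶ X₁} {q : P ⟶ B} (hP : IsPullback p q g b) (hb : BlowUp.IsBlowUp b 𝓘)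
    (hloc : ∀ x₁, GoodAt 𝓘 g x₁) (z : P) :
    ∃ (W : CommRingCat.{u}) (M : Spec W ⟶ P), IsOpenImmersion M ∧ z ∈ Set.range M ∧
      BlowUp.IsEffCartierIdeal (((𝓘.comap g).comap p).comap M) := by
  obtain ⟨U, A', cA', φ, j, m, a, hj, hzj, hjg, hI, hgood⟩ := hloc (p z)
  have hzU : b (q z) ∈ U.1 := by
    rw [← Scheme.Hom.comp_apply, ← hP.w, Scheme.Hom.comp_apply]
    obtain ⟨y, hy⟩ := hzj
    rw [← hy, ← Scheme.Hom.comp_apply, hjg, Scheme.Hom.comp_apply]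
    exact U.2.range_fromSpec.le ⟨_, rfl⟩
  obtain ⟨i, ha, c, hc, hzc, hcb⟩ := exists_chart_of_gens 𝓘 b hb U a hI (q z) hzU
  have hG := hgood i ha
  letI : Algebra Γ(X, U.1) A' := φ.toAlgebra
  letI : Algebra Γ(X, U.1) (Ch (𝓘.ideal U) (a i) ha) := (fromA (𝓘.ideal U) (a i) ha).toAlgebra
  let s₁ : Spec (CommRingCat.of A') ⟶ Spec Γ(X, U.1) :=
    Spec.map (CommRingCat.ofHom (algebraMap Γ(X, U.1) A'))
  let s₂ : Spec (CommRingCat.of (Ch (𝓘.ideal U) (a i) ha)) ⟶ Spec Γ(X, U.1) :=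
    Spec.map (CommRingCat.ofHom (algebraMap Γ(X, U.1) (Ch (𝓘.ideal U) (a i) ha)))
  have e₁ : s₁ ≫ U.2.fromSpec = j ≫ g := hjg.symm
  have e₂ : s₂ ≫ U.2.fromSpec = c ≫ b := hcb.symm
  let N := pullback.map s₁ s₂ g b j c U.2.fromSpec e₁ e₂
  let e := (pullbackSpecIso Γ(X, U.1) A' (Ch (𝓘.ideal U) (a i) ha)).inv
  refine ⟨_, e ≫ N ≫ hP.isoPullback.inv, inferInstance, ?_, ?_⟩
  · have hN : hP.isoPullback.hom z ∈ Set.range N := by
      rw [Scheme.Pullback.range_map]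
      refine ⟨?_, ?_⟩
      · rw [Set.mem_preimage, ← Scheme.Hom.comp_apply, hP.isoPullback_hom_fst]; exact hzj
      · rw [Set.mem_preimage, ← Scheme.Hom.comp_apply, hP.isoPullback_hom_snd]; exact hzc
    obtain ⟨w, hw⟩ := hN
    refine ⟨(pullbackSpecIso Γ(X, U.1) A' (Ch (𝓘.ideal U) (a i) ha)).hom w, ?_⟩
    rw [Scheme.Hom.comp_apply, Scheme.Hom.comp_apply]
    have h1 : e ((pullbackSpecIso Γ(X, U.1) A' (Ch (𝓘.ideal U) (a i) ha)).hom w) = w := by
      simp only [e, ← Scheme.Hom.comp_apply, Iso.hom_inv_id]; rfl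
    rw [h1, hw, ← Scheme.Hom.comp_apply, Iso.hom_inv_id]
    rfl
  · let ψ : Γ(X, U.1) →+* A' ⊗[Γ(X, U.1)] Ch (𝓘.ideal U) (a i) ha :=
      ((Algebra.TensorProduct.includeRight :
        Ch (𝓘.ideal U) (a i) ha →ₐ[Γ(X, U.1)] A' ⊗[Γ(X, U.1)] Ch (𝓘.ideal U) (a i) ha).toRingHom).comp
          (fromA (𝓘.ideal U) (a i) ha)
    have hM : (e ≫ N ≫ hP.isoPullback.inv) ≫ p ≫ g = Spec.map (CommRingCat.ofHom ψ) ≫ U.2.fromSpec := by
      simp only [Category.assoc, hP.w, hP.isoPullback_inv_snd_assoc]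
      simp only [N, pullback.lift_snd_assoc, e, Category.assoc]
      rw [← e₂]
      simp only [s₂]
      rw [pullbackSpecIso_inv_snd_assoc, ← Category.assoc, ← Spec.map_comp]
      rfl
    rw [← Scheme.IdealSheafData.comap_comp, ← Scheme.IdealSheafData.comap_comp, Category.assoc, hM,
      Scheme.IdealSheafData.comap_comp, comap_fromSpec_eq 𝓘 U]
    refine cartier_specMap _ ψ _ hG ?_
    rw [← Ideal.map_map, map_fromA_eq, Ideal.map_span, Set.image_singleton]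
    rfl

/-- Blowing up commutes with a base change keeping the exceptional equations regular. -/
theorem isBlowUp_baseChange {X X₁ B P : Scheme.{u}} (𝓘 : X.IdealSheafData) {g : X₁ ⟶ X} {b : B ⟶ X}
    {p : P ⟶ X₁} {q : P ⟶ B} (hP : IsPullback p q g b) (hb : BlowUp.IsBlowUp b 𝓘)
    (hloc : ∀ x₁, GoodAt 𝓘 g x₁) : BlowUp.IsBlowUp p (𝓘.comap g) := by
  refine ⟨?_, fun Y y hy => ?_⟩
  · choose W M hM hzM hW using exists_cartier_piece 𝓘 hP hb hloc
    let 𝒰 : P.AffineOpenCover :=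
      { I₀ := P
        X := W
        f := M
        idx := fun z => z
        covers := hzM
        map_prop := hM }
    exact ModPairCoprod.cartier_of_cover 𝒰.openCover hW
  obtain ⟨h, hh, huniq⟩ := hb.2 Y (y ≫ g) (by rwa [Scheme.IdealSheafData.comap_comp])
  refine ⟨hP.lift y h hh.symm, hP.lift_fst _ _ _, fun k hk => ?_⟩
  apply hP.hom_ext
  · rw [hP.lift_fst]; exact hk
  · rw [hP.lift_snd]
    refine huniq _ ?_
    show (k ≫ q) ≫ b = y ≫ g
    rw [Category.assoc, ← hP.w, ← Category.assoc]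
    exact congrArg (· ≫ g) hk

/-- Flatness of a blow-up over a base from flat thickenings. -/
theorem flat_blowUp {X X' S : Scheme.{u}} (f : X ⟶ S) [Flat f] (𝓘 : X.IdealSheafData) (hft : BlowUp.IsFiniteTypeIdeal 𝓘)
    (hfl : ∀ n : ℕ, Flat ((𝓘 ^ (n + 1)).subschemeι ≫ f)) (b : X' ⟶ X) (hb : BlowUp.IsBlowUp b 𝓘) :
    Flat (b ≫ f) := by
  suffices key : ∀ z : X', ∃ (W : CommRingCat.{u}) (c : Spec W ⟶ X'), IsOpenImmersion c ∧ z ∈ Set.range c ∧
      Flat (c ≫ b ≫ f) by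
    choose W c hc hzc hfc using key
    let 𝒰 : X'.AffineOpenCover := { I₀ := X', X := W, f := c, idx := fun z => z, covers := hzc, map_prop := hc }
    exact (IsZariskiLocalAtSource.iff_of_openCover (P := @Flat) 𝒰.openCover).2 hfc
  intro z
  obtain ⟨W, hW, hsW, -⟩ := exists_isAffineOpen_mem_and_subset (X := S) (U := ⊤)
    (trivial : f (b z) ∈ (⊤ : S.Opens))
  obtain ⟨U, hU, hzU, eU⟩ := exists_isAffineOpen_mem_and_subset (X := X) (U := f ⁻¹ᵁ W)
    (show b z ∈ f ⁻¹ᵁ W from hsW)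
  obtain ⟨m, a, hI⟩ := Submodule.fg_iff_exists_fin_generating_family.1 (hft ⟨U, hU⟩)
  obtain ⟨i, ha, c, hc, hzc, hcb⟩ := exists_chart_of_gens 𝓘 b hb ⟨U, hU⟩ a hI.symm z hzU
  refine ⟨_, c, hc, hzc, ?_⟩
  have hfl' := flat_fromA (f.appLE W U eU).hom (Flat.flat_appLE f hW hU eU) (𝓘.ideal ⟨U, hU⟩) (a i) ha fun n => by
    haveI := hfl n
    have := BlowExc.flat_ringHom_of_flat f (𝓘 ^ (n + 1)) ⟨W, hW⟩ ⟨U, hU⟩ eU
    rw [Scheme.IdealSheafData.ideal_pow] at this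
    exact this
  rw [← Category.assoc c, hcb, Category.assoc]
  erw [← hW.SpecMap_appLE_fromSpec f hU eU, ← Category.assoc, BlowExc.spec_comp]
  exact MorphismProperty.comp_mem _ _ _ ((HasRingHomProperty.Spec_iff (P := @Flat) (φ := CommRingCat.ofHom
      ((fromA (𝓘.ideal ⟨U, hU⟩) (a i) ha).comp (f.appLE W U eU).hom))).2 hfl') (inferInstance : Flat hW.fromSpec)

end Groth.Agent.BlowBC
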