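import Groth.Agent.BlowBC.Scheme
import Groth.Agent.BlowExc.Smooth
import Groth.Agent.BlowReg.Max
import Groth.Agent.GeomProp.SmoothCrit
import Groth.Agent.KoszulLib.Flat
import Mathlib

/-!
# Smoothness of an algebra from a smooth divisor and smoothness off it
-/

set_option autoImplicit false
set_option linter.style.haveILetI false
set_option maxSynthPendingDepth 4
set_option backward.isDefEq.respectTransparency false
universe u

open CategoryTheory AlgebraicGeometry Limits TopologicalSpace TensorProduct

namespace Groth.Agent.BlowBC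

open BlowUpExist KoszBlow
open Wiebe (Acyclic)

theorem isRegularRing_tensor_of_nzd {R C K : Type u} [CommRing R] [CommRing C] [Algebra R C] [Field K] [Algebra R K]
    [Algebra.FiniteType R C] (a : C) (ha : a ∈ nonZeroDivisors C)
    [Algebra.Smooth R (C ⧸ Ideal.span {a})] [Algebra.Smooth R (Localization.Away a)] :
    IsRegularRing (K ⊗[R] C) := by
  let F := K ⊗[R] C
  let a' : F := (1 : K) ⊗ₜ[R] a
  haveI : IsNoetherianRing F := Algebra.FiniteType.isNoetherianRing K F
  -- the divisor
  haveI : IsRegularRing (F ⧸ Ideal.span {a'}) := by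
    haveI := GeomProp.isRegularRing_of_smooth K (K ⊗[R] (C ⧸ Ideal.span {a}))
    refine IsRegularRing.of_ringEquiv
      (((Algebra.TensorProduct.tensorQuotientEquiv (R := R) K C K (Ideal.span {a})).toRingEquiv).trans
        (Ideal.quotEquivOfEq ?_))
    rw [Ideal.map_span, Set.image_singleton]
    rfl
  have hreg : IsSMulRegular F a' := by
    have hinj := injective_lTensor_mul (R := R) ha (inferInstance : Module.Flat R (C ⧸ Ideal.span {a})) K
    have e : ∀ w : F, a' * w = (LinearMap.mulLeft R a).lTensor K w := fun w => by
      induction w using TensorProduct.induction_on with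
      | zero => simp
      | tmul c r =>
        show ((1 : K) ⊗ₜ[R] a) * (c ⊗ₜ[R] r) = _
        simp [Algebra.TensorProduct.tmul_mul_tmul]
      | add x y hx hy => rw [mul_add, map_add, hx, hy]
    intro x y hxy
    apply hinj
    rw [← e, ← e]
    exact hxy
  -- off the divisor
  let T := K ⊗[R] Localization.Away a
  haveI : IsRegularRing T := GeomProp.isRegularRing_of_smooth K T
  let ι : F →ₐ[K] T := Algebra.TensorProduct.map (AlgHom.id K K) (IsScalarTower.toAlgHom R C (Localization.Away a))
  letI : Algebra F T := ι.toRingHom.toAlgebra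
  haveI : IsScalarTower K F T := .of_algebraMap_eq fun x => (ι.commutes x).symm
  haveI hloc : IsLocalization ((Submonoid.powers a).map (Algebra.TensorProduct.includeRight (R := R) (A := K))) T := by
    refine IsLocalization.tensorProduct_tensorProduct_right R K (Submonoid.powers a) (Localization.Away a) ?_
    ext x
    show ι ((1 : K) ⊗ₜ[R] x) = _
    simp only [ι, Algebra.TensorProduct.map_tmul]
    rfl
  haveI : IsLocalization.Away a' T := by
    have hpow : (Submonoid.powers a).map (Algebra.TensorProduct.includeRight (R := R) (A := K)) = Submonoid.powers a' :=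
      Submonoid.map_powers (Algebra.TensorProduct.includeRight (R := R) (A := K)).toMonoidHom a
    rw [hpow] at hloc
    exact hloc
  refine isRegularRing_iff.2 fun M _ => ?_
  by_cases haM : a' ∈ M
  · exact BlowReg.isRegularLocalRing_atPrime_of_quot a' hreg M haM
  · have hdisj : Disjoint ((Submonoid.powers a' : Submonoid F) : Set F) M :=
      (Ideal.disjoint_powers_iff_notMem_of_isPrime a').2 haM
    let Q := M.map (algebraMap F T)
    haveI : Q.IsPrime := IsLocalization.isPrime_of_isPrime_disjoint (Submonoid.powers a') _ M inferInstance hdisj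
    have hQ : Q.comap (algebraMap F T) = M :=
      IsLocalization.under_map_of_isPrime_disjoint (Submonoid.powers a') _ inferInstance hdisj
    haveI := IsLocalization.isLocalization_isLocalization_atPrime_isLocalization (Submonoid.powers a')
      (Localization.AtPrime Q) Q
    haveI : IsRegularLocalRing (Localization.AtPrime Q) := IsRegularRing.isRegularLocalRing_localization Q
    exact IsRegularLocalRing.of_ringEquiv (R := Localization.AtPrime Q)
      ((IsLocalization.algEquiv (Q.comap (algebraMap F T)).primeCompl
          (Localization.AtPrime Q) (Localization.AtPrime (Q.comap (algebraMap F T)))).toRingEquiv.trans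
        (IsLocalization.ringEquivOfRingEquiv (M := (Q.comap (algebraMap F T)).primeCompl)
          (T := M.primeCompl) _ (Localization.AtPrime M) (RingEquiv.refl _) (by
            ext x
            simp only [Submonoid.mem_map, Ideal.mem_primeCompl_iff]
            rw [hQ]
            exact ⟨fun ⟨y, hy, hyx⟩ => hyx ▸ hy, fun hx => ⟨x, hx, rfl⟩⟩)))

/-- smoothness from a smooth divisor and smoothness off it -/
theorem smooth_of_nzd {R C : Type u} [CommRing R] [CommRing C] [Algebra R C] [Algebra.FinitePresentation R C]
    [Module.Flat R C] (a : C) (ha : a ∈ nonZeroDivisors C)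
    [Algebra.Smooth R (C ⧸ Ideal.span {a})] [Algebra.Smooth R (Localization.Away a)] : Algebra.Smooth R C := by
  refine (GeomProp.smooth_iff R C).2 ⟨inferInstance, fun p _ K _ _ _ => ?_⟩
  letI : Algebra R K := ((algebraMap p.ResidueField K).comp (algebraMap R p.ResidueField)).toAlgebra
  haveI : IsScalarTower R p.ResidueField K := .of_algebraMap_eq fun _ => rfl
  haveI := isRegularRing_tensor_of_nzd (R := R) (K := K) a ha
  exact IsRegularRing.of_ringEquiv (Algebra.TensorProduct.cancelBaseChange R p.ResidueField K K C).symm.toRingEquiv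

theorem smooth_of_nzd_hom {R C : Type u} [CommRing R] [CommRing C] (φ : R →+* C) (hfp : φ.FinitePresentation)
    (hfl : φ.Flat) (a : C) (ha : a ∈ nonZeroDivisors C) (hq : ((Ideal.Quotient.mk (Ideal.span {a})).comp φ).Smooth)
    (haway : ((algebraMap C (Localization.Away a)).comp φ).Smooth) : φ.Smooth := by
  letI := φ.toAlgebra
  haveI : Algebra.FinitePresentation R C := RingHom.finitePresentation_algebraMap.1 hfp
  haveI : Module.Flat R C := RingHom.flat_algebraMap_iff.1 hfl
  haveI : Algebra.Smooth R (C ⧸ Ideal.span {a}) := RingHom.smooth_algebraMap.1 hq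
  haveI : Algebra.Smooth R (Localization.Away a) := RingHom.smooth_algebraMap.1 haway
  exact RingHom.smooth_algebraMap.2 (smooth_of_nzd a ha)

section Chart

variable {A : Type u} [CommRing A] {n : ℕ} (a : Fin (n + 1) → A) {I : Ideal A}
  (hI : I = Ideal.span (Set.range a))

theorem finitePresentation_fromA_zero (ha : Acyclic a) :
    (fromA I (a 0) (KoszBlow.mem_ideal a hI 0)).FinitePresentation := by
  rw [show fromA I (a 0) (KoszBlow.mem_ideal a hI 0) = (pres a hI).comp MvPolynomial.C from
    RingHom.ext fun x => (pres_C a hI x).symm]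
  refine RingHom.FinitePresentation.comp (RingHom.FinitePresentation.of_surjective _ (pres_surjective a hI) ?_) ?_
  · rw [ker_pres a hI ha]
    exact Submodule.fg_span (Set.finite_range _)
  · rw [← MvPolynomial.algebraMap_eq, RingHom.finitePresentation_algebraMap]
    infer_instance

theorem finitePresentation_congr {I : Ideal A} {b c : A} (h : b = c) {hb : b ∈ I} {hc : c ∈ I}
    (hf : (fromA I b hb).FinitePresentation) : (fromA I c hc).FinitePresentation := by
  subst h; exact hf

include hI in
theorem finitePresentation_fromA (ha : Acyclic a) (j : Fin (n + 1)) :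
    (fromA I (a j) (KoszBlow.mem_ideal a hI j)).FinitePresentation := by
  have hI' : I = Ideal.span (Set.range (a ∘ Equiv.swap 0 j)) := by
    rw [hI, Set.range_comp, Set.range_eq_univ.2 (Equiv.swap 0 j).surjective, Set.image_univ]
  exact finitePresentation_congr (congrArg a (Equiv.swap_apply_left 0 j))
    (finitePresentation_fromA_zero (a ∘ Equiv.swap 0 j) hI' (KoszulLib.acyclic_comp_equiv _ ha))

end Chart

/-- Smoothness of a closed subscheme over the base, read on an affine chart. -/
theorem smooth_ringHom_of_smooth {X S : Scheme.{u}} (g : X ⟶ S) (J : X.IdealSheafData) [Smooth (J.subschemeι ≫ g)]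
    (W : S.affineOpens) (U : X.affineOpens) (e : U.1 ≤ g ⁻¹ᵁ W.1) :
    ((Ideal.Quotient.mk (J.ideal U)).comp (g.appLE W.1 U.1 e).hom).Smooth := by
  have hsheaf : J.subschemeι.ker.comap U.2.fromSpec = sheafOf (J.ideal U) := by
    rw [Scheme.IdealSheafData.ker_subschemeι]
    exact comap_fromSpec_eq J U
  obtain ⟨j, hj, hje, -⟩ := BlowExc.exists_piece J.subschemeι U.2.fromSpec (J.ideal U) hsheaf
  haveI : Smooth (Spec.map (CommRingCat.ofHom ((Ideal.Quotient.mk (J.ideal U)).comp (g.appLE W.1 U.1 e).hom)) ≫
      W.2.fromSpec) := by
    have heq : Spec.map (CommRingCat.ofHom ((Ideal.Quotient.mk (J.ideal U)).comp (g.appLE W.1 U.1 e).hom)) ≫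
        W.2.fromSpec = j ≫ J.subschemeι ≫ g := by
      rw [← Category.assoc j, hje, Category.assoc, ← W.2.SpecMap_appLE_fromSpec g U.2 e, ← Category.assoc,
        ← Spec.map_comp]
      rfl
    rw [heq]
    infer_instance
  refine (HasRingHomProperty.Spec_iff (P := @Smooth) (φ := CommRingCat.ofHom
    ((Ideal.Quotient.mk (J.ideal U)).comp (g.appLE W.1 U.1 e).hom))).1 ?_
  exact MorphismProperty.of_postcomp (W := @Smooth) (W' := @IsOpenImmersion) _ W.2.fromSpec
    (inferInstance : IsOpenImmersion W.2.fromSpec) ‹_›

end Groth.Agent.BlowBC
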