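import Groth.Agent.BlowBC.Smooth
import Groth.Agent.BlowBC.Flat
import Groth.Agent.SyntLib.AbsCI
import Groth.Agent.S1677
import Mathlib

/-!
# Blowing up a smooth centre in a smooth scheme
-/

set_option autoImplicit false
set_option linter.style.haveILetI false
set_option maxSynthPendingDepth 4
set_option backward.isDefEq.respectTransparency false
universe u

open CategoryTheory AlgebraicGeometry Limits TopologicalSpace

namespace Groth.Agent.BlowBC

open BlowUpExist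
open Wiebe (Acyclic)

theorem isRegularIdeal_quasi_ker {Z X : Scheme.{u}} (i : Z ⟶ X) (hi : Mor2.IsRegularClosedImmersion i) :
    RegImm.IsRegularIdeal RegImm.Kind.quasi i.ker := by
  intro x hx
  haveI := hi.1
  obtain ⟨z, rfl⟩ : x ∈ Set.range i := by
    have h := (Scheme.Hom.support_ker i).le hx
    rwa [i.isClosedEmbedding.isClosed_range.closure_eq] at h
  obtain ⟨U, hU, hzU, rs, hrs, hker⟩ := hi.2 z
  exact ⟨⟨U, hU⟩, hzU, rs, KoszulLib.quasi_seq_of_h1 (KoszulLib.h1_seq_of_koszul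
    (KoszulLib.koszul_seq_of_regular hrs)), hker⟩

set_option maxHeartbeats 1600000 in
/-- The blow-up of a smooth scheme in a smooth, regularly immersed centre is smooth. -/
theorem smooth_blowUp {Z X X' S : Scheme.{u}} (q : X ⟶ S) [Smooth q] (i : Z ⟶ X)
    (hi : Mor2.IsRegularClosedImmersion i) [Smooth (i ≫ q)] (b : X' ⟶ X) (hb : BlowUp.IsBlowUp b i.ker) :
    Smooth (b ≫ q) := by
  haveI := hi.1
  haveI : Smooth (i.ker.subschemeι ≫ q) := by
    have h : inv i.toImage ≫ i ≫ q = i.ker.subschemeι ≫ q := by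
      rw [IsIso.inv_comp_eq, ← Category.assoc]
      change i ≫ q = (i.toImage ≫ i.imageι) ≫ q
      rw [Scheme.Hom.toImage_imageι]
    rw [← h]
    infer_instance
  let O : X.Opens := i.ker.support.compl
  haveI : IsIso (b ∣_ O) := BlowUpLib.isIso_restrict hb
  haveI hOsm : Smooth ((b ⁻¹ᵁ O).ι ≫ b ≫ q) := by
    rw [← morphismRestrict_ι_assoc]
    infer_instance
  suffices key : ∀ z : X', ∃ (V : Scheme.{u}) (c : V ⟶ X'), IsOpenImmersion c ∧ z ∈ Set.range c ∧
      Smooth (c ≫ b ≫ q) by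
    choose V c hc hzc hsm using key
    let 𝒰 : X'.OpenCover := X'.openCoverOfIsOpenCover (fun e => (haveI := hc e; (c e).opensRange))
      (eq_top_iff.2 fun e _ => Opens.mem_iSup.2 ⟨e, hzc e⟩)
    refine (IsZariskiLocalAtSource.iff_of_openCover (P := @Smooth) 𝒰).2 fun (e : X') => ?_
    haveI := hc e
    show Smooth ((c e).opensRange.ι ≫ b ≫ q)
    rw [← Scheme.Hom.isoOpensRange_inv_comp (c e), Category.assoc]
    haveI := hsm e
    infer_instance
  intro z
  by_cases hz : b z ∈ i.ker.support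
  swap
  · exact ⟨_, (b ⁻¹ᵁ O).ι, inferInstance, ⟨⟨z, hz⟩, rfl⟩, hOsm⟩
  obtain ⟨W, hW, hxW, -⟩ := exists_isAffineOpen_mem_and_subset (X := S) (U := ⊤) (trivial : q (b z) ∈ (⊤ : S.Opens))
  obtain ⟨U₀, m, a₀, hxU₀, ha₀, hI₀⟩ := KoszBlow.exists_acyclic_of_regularImmersion hi (b z)
  obtain ⟨U, hU, hxU, hUle⟩ := exists_isAffineOpen_mem_and_subset (X := X) (U := U₀.1 ⊓ q ⁻¹ᵁ W)
    (⟨hxU₀, hxW⟩ : b z ∈ U₀.1 ⊓ q ⁻¹ᵁ W)
  have e : U ≤ U₀.1 := fun y hy => (hUle hy).1
  have eU : U ≤ q ⁻¹ᵁ W := fun y hy => (hUle hy).2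
  let res := (X.presheaf.map (homOfLE e).op).hom
  have hflat : ((𝟙 X : X ⟶ X).appLE U₀.1 U e).hom.Flat :=
    HasRingHomProperty.appLE @Flat (𝟙 X) inferInstance U₀ ⟨U, hU⟩ e
  have halg : X.presheaf.map (homOfLE e).op = (𝟙 X : X ⟶ X).appLE U₀.1 U e := by
    simp [Scheme.Hom.appLE]
  rw [← halg] at hflat
  letI : Algebra Γ(X, U₀.1) Γ(X, U) := res.toAlgebra
  haveI : Module.Flat Γ(X, U₀.1) Γ(X, U) := hflat
  have ha : Acyclic (res ∘ a₀) := KoszulLib.acyclic_baseChange (B := Γ(X, U)) ha₀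
  have hI : i.ker.ideal ⟨U, hU⟩ = Ideal.span (Set.range (res ∘ a₀)) := by
    rw [← i.ker.map_ideal (U := ⟨U, hU⟩) (V := U₀) e, hI₀, Set.range_comp, ← Ideal.map_span]
    rfl
  obtain ⟨k, hk, c, hc, hzc, hcb⟩ := exists_chart_of_gens i.ker b hb ⟨U, hU⟩ (res ∘ a₀) hI z hxU
  refine ⟨_, c, hc, hzc, ?_⟩
  obtain ⟨n, rfl⟩ : ∃ n, m = n + 1 := ⟨m - 1, by have := k.2; omega⟩
  let φ := (q.appLE W U eU).hom
  let ψ := fromA (i.ker.ideal ⟨U, hU⟩) ((res ∘ a₀) k) hk
  let g := ψ ((res ∘ a₀) k)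
  have hfl : ∀ r : ℕ, ((Ideal.Quotient.mk (i.ker.ideal ⟨U, hU⟩ ^ (r + 1))).comp φ).Flat := fun r => by
    haveI : Flat (i.ker.subschemeι ≫ q) := inferInstance
    haveI := flat_thickening q i.ker (isRegularIdeal_quasi_ker i hi) r
    have h2 := BlowExc.flat_ringHom_of_flat q (i.ker ^ (r + 1)) ⟨W, hW⟩ ⟨U, hU⟩ eU
    rw [Scheme.IdealSheafData.ideal_pow] at h2
    exact h2
  have hφflat : φ.Flat := Flat.flat_appLE q hW hU eU
  have hφfp : φ.FinitePresentation :=
    HasRingHomProperty.appLE @LocallyOfFinitePresentation q inferInstance ⟨W, hW⟩ ⟨U, hU⟩ eU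
  have hq : ((Ideal.Quotient.mk (Ideal.span {g})).comp (ψ.comp φ)).Smooth := by
    have h1 := smooth_ringHom_of_smooth q i.ker ⟨W, hW⟩ ⟨U, hU⟩ eU
    have h2 := BlowExc.smooth_quotientMap' (res ∘ a₀) hI ha k
    have heq : (Ideal.Quotient.mk (Ideal.span {g})).comp (ψ.comp φ) =
        (Ideal.quotientMap (Ideal.span {g}) ψ (BlowExc.le_comap_fromA ((res ∘ a₀) k) hk)).comp
          ((Ideal.Quotient.mk (i.ker.ideal ⟨U, hU⟩)).comp φ) := rfl
    rw [heq]
    exact RingHom.Smooth.comp h1 h2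
  have haway : ((algebraMap _ (Localization.Away g)).comp (ψ.comp φ)).Smooth := by
    let s : Spec (CommRingCat.of (Localization.Away g)) ⟶ Spec (CommRingCat.of (Ch _ ((res ∘ a₀) k) hk)) :=
      Spec.map (CommRingCat.ofHom (algebraMap _ (Localization.Away g)))
    haveI : IsOpenImmersion s := IsOpenImmersion.of_isLocalization g
    have hrange : Set.range (s ≫ c) ⊆ Set.range (b ⁻¹ᵁ O).ι := by
      rintro _ ⟨p, rfl⟩
      rw [Scheme.Opens.range_ι]
      show b ((s ≫ c) p) ∈ (i.ker.support : Set X)ᶜ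
      intro hmem
      rw [Scheme.Hom.comp_apply, ← Scheme.Hom.comp_apply c, hcb, Scheme.Hom.comp_apply] at hmem
      have h1 : Spec.map (CommRingCat.ofHom ψ) (s p) ∈ (i.ker.comap hU.fromSpec).support := by
        rw [Scheme.IdealSheafData.support_comap]
        exact hmem
      rw [comap_fromSpec_eq i.ker ⟨U, hU⟩, BlowReg.mem_support_sheafOf] at h1
      have h2 : (res ∘ a₀) k ∈ (Spec.map (CommRingCat.ofHom ψ) (s p)).asIdeal := h1 hk
      exact p.isPrime.ne_top (Ideal.eq_top_of_isUnit_mem _ h2 (IsLocalization.Away.algebraMap_isUnit g))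
    haveI : IsOpenImmersion (IsOpenImmersion.lift (b ⁻¹ᵁ O).ι (s ≫ c) hrange) := by
      haveI : IsOpenImmersion (IsOpenImmersion.lift (b ⁻¹ᵁ O).ι (s ≫ c) hrange ≫ (b ⁻¹ᵁ O).ι) := by
        rw [IsOpenImmersion.lift_fac]; infer_instance
      exact IsOpenImmersion.of_comp _ (b ⁻¹ᵁ O).ι
    haveI hsm : Smooth (Spec.map (CommRingCat.ofHom ((algebraMap _ (Localization.Away g)).comp (ψ.comp φ))) ≫
        hW.fromSpec) := by
      have heq : Spec.map (CommRingCat.ofHom ((algebraMap _ (Localization.Away g)).comp (ψ.comp φ))) ≫ hW.fromSpec =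
          IsOpenImmersion.lift (b ⁻¹ᵁ O).ι (s ≫ c) hrange ≫ (b ⁻¹ᵁ O).ι ≫ b ≫ q := by
        rw [IsOpenImmersion.lift_fac_assoc, Category.assoc, reassoc_of% hcb, ← hW.SpecMap_appLE_fromSpec q hU eU,
          ← Category.assoc, ← Category.assoc, ← Spec.map_comp, ← Spec.map_comp]
        rfl
      rw [heq]
      infer_instance
    exact (HasRingHomProperty.Spec_iff (P := @Smooth) (φ := CommRingCat.ofHom _)).1
      (MorphismProperty.of_postcomp (W := @Smooth) (W' := @IsOpenImmersion) _ hW.fromSpec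
        (inferInstance : IsOpenImmersion hW.fromSpec) hsm)
  have hsmooth := smooth_of_nzd_hom (ψ.comp φ)
    (RingHom.FinitePresentation.comp (finitePresentation_fromA (res ∘ a₀) hI ha k) hφfp)
    (flat_fromA φ hφflat _ _ hk hfl) g (fromA_mem_nonZeroDivisors _ _ hk) hq haway
  rw [reassoc_of% hcb, ← hW.SpecMap_appLE_fromSpec q hU eU, ← Category.assoc]
  erw [BlowExc.spec_comp]
  exact MorphismProperty.comp_mem _ _ _ ((HasRingHomProperty.Spec_iff (P := @Smooth)
    (φ := CommRingCat.ofHom (ψ.comp φ))).2 hsmooth) (inferInstance : Smooth hW.fromSpec)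

end Groth.Agent.BlowBC
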